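import Groth.Agent.Lib.PosLin.Kodaira
import Mathlib.Analysis.SpecificLimits.Basic
import Mathlib.Analysis.Asymptotics.Defs
import Mathlib.Topology.Algebra.Order.LiminfLimsup

/-!
# Growth of sections in the real and extended real normalisations
-/

set_option autoImplicit false
set_option linter.style.haveILetI false
set_option linter.unusedSectionVars false
universe u

open CategoryTheory CategoryTheory.Limits AlgebraicGeometry Filter Topology
open scoped ENNReal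

namespace Groth.Agent.Lib.PosLin.Volume

open Groth.Agent.Lib Groth.Agent.Lib.Snapper Groth.Agent.Lib.PosLin.SectionBound
open Groth.Agent.Lib.TensorMod.Basic (comm assoc tensorIso leftUnit rightUnit)
open Groth.Agent.Lib.TensorMod.Invertible (isInvertible_tensorPow isInvertible_tensorMod
  isInvertible_dual tensorDualIso)

section Seq

variable {h : ℕ → ℕ} {d : ℕ}

theorem exists_nat_bound {c : ℝ} (hc : 0 < c) {m₁ : ℕ}
    (hb : ∀ m, m₁ ≤ m → c * (m : ℝ) ^ d ≤ h m) :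
    ∃ a : ℕ, 0 < a ∧ ∀ m, m₁ ≤ m → m ^ d ≤ a * h m := by
  obtain ⟨a, ha⟩ := exists_nat_gt (1 / c)
  refine ⟨a, Nat.cast_pos.1 ((one_div_pos.2 hc).trans ha), fun m hm => ?_⟩
  have h1 : (1 : ℝ) ≤ a * c := ((div_lt_iff₀ hc).1 ha).le
  have h2 := mul_le_mul_of_nonneg_left (hb m hm) (Nat.cast_nonneg (α := ℝ) a)
  have h3 := mul_le_mul_of_nonneg_right h1 (pow_nonneg (Nat.cast_nonneg (α := ℝ) m) d)
  have h4 : ((m ^ d : ℕ) : ℝ) ≤ ((a * h m : ℕ) : ℝ) := by
    push_cast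
    linarith
  exact_mod_cast h4

theorem exists_real_bound {a m₀ : ℕ} (ha : 0 < a) (hb : ∀ m, m₀ ≤ m → m ^ d ≤ a * h m) :
    ∃ c : ℝ, 0 < c ∧ ∀ m, m₀ ≤ m → c * (m : ℝ) ^ d ≤ h m := by
  refine ⟨1 / a, by positivity, fun m hm => ?_⟩
  rw [one_div_mul_eq_div, div_le_iff₀ (by positivity : (0 : ℝ) < a)]
  have h4 : ((m ^ d : ℕ) : ℝ) ≤ ((a * h m : ℕ) : ℝ) := by exact_mod_cast hb m hm
  push_cast at h4
  linarith

theorem exists_large_of_limsup_pos
    (hpos : 0 < limsup (fun m : ℕ => (h m : ℝ≥0∞) / (m : ℝ≥0∞) ^ d) atTop) :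
    ∀ C m₀ : ℕ, ∃ m, m₀ ≤ m ∧ C * m ^ d < m * h m := by
  intro C m₀
  by_contra hcon
  push Not at hcon
  refine hpos.ne' (le_antisymm ?_ zero_le)
  have ht : Tendsto (fun m : ℕ => (C : ℝ≥0∞) / (m : ℝ≥0∞)) atTop (𝓝 0) := by
    simpa using ENNReal.Tendsto.const_div (a := (C : ℝ≥0∞)) ENNReal.tendsto_nat_nhds_top
      (Or.inr (ENNReal.natCast_ne_top C))
  rw [← ht.limsup_eq]
  refine limsup_le_limsup (eventually_atTop.2 ⟨m₀ + 1, fun m hm => ?_⟩)
  have hm' : (m : ℝ≥0∞) ≠ 0 := by exact_mod_cast (show m ≠ 0 by omega)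
  rw [ENNReal.le_div_iff_mul_le (Or.inl hm') (Or.inl (ENNReal.natCast_ne_top m)), mul_comm,
    ← mul_div_assoc]
  refine ENNReal.div_le_of_le_mul ?_
  exact_mod_cast hcon m (by omega)

theorem liminf_pos_of_bound {a m₀ : ℕ} (hb : ∀ m, m₀ ≤ m → m ^ d ≤ a * h m) :
    0 < liminf (fun m : ℕ => (h m : ℝ≥0∞) / (m : ℝ≥0∞) ^ d) atTop := by
  have ha : (0 : ℝ≥0∞) < (1 : ℝ≥0∞) / a :=
    ENNReal.div_pos one_ne_zero (ENNReal.natCast_ne_top a)
  refine ha.trans_le (le_liminf_of_le (by isBoundedDefault)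
    (eventually_atTop.2 ⟨m₀ + 1, fun m hm => ?_⟩))
  have hm' : (m : ℝ≥0∞) ^ d ≠ 0 := pow_ne_zero _ (by exact_mod_cast (show m ≠ 0 by omega))
  rw [ENNReal.le_div_iff_mul_le (Or.inl hm') (Or.inl (ENNReal.pow_ne_top (ENNReal.natCast_ne_top m))),
    mul_comm, ← mul_div_assoc, mul_one]
  refine ENNReal.div_le_of_le_mul ?_
  rw [mul_comm]
  exact_mod_cast hb m (by omega)

/-- Homogeneity of the upper limit for a sequence which is eventually monotone under shifts. -/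
theorem limsup_mul {r₀ a : ℕ} (ha : 0 < a) (hmono : ∀ m r, r₀ ≤ r → h m ≤ h (m + r)) :
    limsup (fun n : ℕ => (h (a * n) : ℝ≥0∞) / (n : ℝ≥0∞) ^ d) atTop =
      (a : ℝ≥0∞) ^ d * limsup (fun m : ℕ => (h m : ℝ≥0∞) / (m : ℝ≥0∞) ^ d) atTop := by
  have had0 : (a : ℝ≥0∞) ^ d ≠ 0 := pow_ne_zero _ (by exact_mod_cast ha.ne')
  have hadt : (a : ℝ≥0∞) ^ d ≠ ⊤ := ENNReal.pow_ne_top (ENNReal.natCast_ne_top a)
  set v := fun m : ℕ => (h m : ℝ≥0∞) / (m : ℝ≥0∞) ^ d with hv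
  have hvn : ∀ n : ℕ, (h (a * n) : ℝ≥0∞) / (n : ℝ≥0∞) ^ d = (a : ℝ≥0∞) ^ d * v (a * n) := by
    intro n
    simp only [hv, Nat.cast_mul, mul_pow]
    rw [← mul_div_assoc, ENNReal.mul_div_mul_left _ _ had0 hadt]
  rw [funext hvn, ENNReal.limsup_const_mul_of_ne_top hadt]
  congr 1
  have hta : Tendsto (fun n : ℕ => a * n) atTop atTop :=
    tendsto_atTop_mono (fun n => Nat.le_mul_of_pos_left n ha) tendsto_id
  refine le_antisymm ((limsup_comp v (fun n : ℕ => a * n) atTop).trans_le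
    (limsup_le_limsup_of_le hta)) ?_
  let φ : ℕ → ℕ := fun m => (m + r₀) / a + 1
  have hφ : Tendsto φ atTop atTop := by
    refine tendsto_atTop.2 fun b => eventually_atTop.2 ⟨a * b, fun m hm => ?_⟩
    have : b ≤ (m + r₀) / a := (Nat.le_div_iff_mul_le ha).2 (by rw [mul_comm]; omega)
    simp only [φ]
    omega
  have hle : ∀ᶠ m : ℕ in atTop,
      v m ≤ ((((m + (r₀ + a) : ℕ) : ℝ≥0∞) / (m : ℝ≥0∞)) ^ d) * v (a * φ m) := by
    refine eventually_atTop.2 ⟨1, fun m hm => ?_⟩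
    have h1 := Nat.div_add_mod (m + r₀) a
    have h2 := Nat.mod_lt (m + r₀) ha
    have he : a * φ m = a * ((m + r₀) / a) + a := by simp only [φ, mul_add, mul_one]
    have hge : m + r₀ ≤ a * φ m := by omega
    have hle : a * φ m ≤ m + (r₀ + a) := by omega
    have hh : h m ≤ h (a * φ m) := by
      have := hmono m (a * φ m - m) (by omega)
      rwa [Nat.add_sub_cancel' (by omega : m ≤ a * φ m)] at this
    set N := a * φ m with hN
    have hN0 : (N : ℝ≥0∞) ^ d ≠ 0 := pow_ne_zero _ (by exact_mod_cast (show N ≠ 0 by omega))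
    calc v m ≤ (h N : ℝ≥0∞) / (m : ℝ≥0∞) ^ d :=
          ENNReal.div_le_div_right (by exact_mod_cast hh) _
      _ = ((N : ℝ≥0∞) / (m : ℝ≥0∞)) ^ d * v N := by
          simp only [hv]
          rw [div_eq_mul_inv (N : ℝ≥0∞), mul_pow, mul_comm ((N : ℝ≥0∞) ^ d), mul_assoc,
            ENNReal.mul_div_cancel hN0 (ENNReal.pow_ne_top (ENNReal.natCast_ne_top N)),
            div_eq_mul_inv, ENNReal.inv_pow, mul_comm]
      _ ≤ ((((m + (r₀ + a) : ℕ) : ℝ≥0∞) / (m : ℝ≥0∞)) ^ d) * v N := by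
          refine mul_le_mul_left ?_ _
          refine pow_le_pow_left' (ENNReal.div_le_div_right ?_ _) d
          exact_mod_cast hle
  have hc : Tendsto (fun m : ℕ => (((m + (r₀ + a) : ℕ) : ℝ≥0∞) / (m : ℝ≥0∞)) ^ d) atTop (𝓝 1) := by
    have h0 : Tendsto (fun m : ℕ => ((r₀ + a : ℕ) : ℝ≥0∞) / (m : ℝ≥0∞)) atTop (𝓝 0) := by
      simpa using ENNReal.Tendsto.const_div (a := ((r₀ + a : ℕ) : ℝ≥0∞))
        ENNReal.tendsto_nat_nhds_top (Or.inr (ENNReal.natCast_ne_top _))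
    have h1 : Tendsto (fun m : ℕ => ((m + (r₀ + a) : ℕ) : ℝ≥0∞) / (m : ℝ≥0∞)) atTop (𝓝 1) := by
      have := h0.const_add (1 : ℝ≥0∞)
      rw [add_zero] at this
      refine this.congr' (eventually_atTop.2 ⟨1, fun m hm => ?_⟩)
      have hm' : (m : ℝ≥0∞) ≠ 0 := by exact_mod_cast (show m ≠ 0 by omega)
      show 1 + _ = ((m + (r₀ + a) : ℕ) : ℝ≥0∞) / _
      rw [Nat.cast_add m, ENNReal.add_div, ENNReal.div_self hm' (ENNReal.natCast_ne_top m)]
    simpa [Function.comp_def] using ((ENNReal.continuous_pow d).tendsto 1).comp h1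
  calc limsup v atTop
      ≤ limsup ((fun m : ℕ => (((m + (r₀ + a) : ℕ) : ℝ≥0∞) / (m : ℝ≥0∞)) ^ d) *
          (fun m => v (a * φ m))) atTop := limsup_le_limsup hle
    _ ≤ limsup (fun m : ℕ => (((m + (r₀ + a) : ℕ) : ℝ≥0∞) / (m : ℝ≥0∞)) ^ d) atTop *
          limsup (fun m => v (a * φ m)) atTop :=
        ENNReal.limsup_mul_le' (Or.inl (by rw [hc.limsup_eq]; exact one_ne_zero))
          (Or.inl (by rw [hc.limsup_eq]; exact ENNReal.one_ne_top))
    _ ≤ limsup (v ∘ fun n => a * n) atTop := by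
      rw [hc.limsup_eq, one_mul]
      exact (limsup_comp (v ∘ fun n => a * n) φ atTop).trans_le (limsup_le_limsup_of_le hφ)

end Seq

variable {k : Type u} [Field k] {X : Scheme.{u}} [X.Over (Spec (CommRingCat.of k))]
  [IsProper (X ↘ Spec (CommRingCat.of k))] [IsIntegral X]

omit [IsProper (X ↘ Spec (CommRingCat.of k))] [IsIntegral X] [X.Over (Spec (CommRingCat.of k))] in
/-- An inverse is the dual. -/
noncomputable def inverseIso {A A' : X.Modules} (hA : PicF.IsInvertible A)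
    (e : CohB1.tensorMod A' A ≅ Coh.structureModule X) : A' ≅ TensorMod.Dual.dual A :=
  (rightUnit A').symm ≪≫ tensorIso (Iso.refl A') (tensorDualIso hA).symm ≪≫ (assoc _ _ _).symm ≪≫
    tensorIso e (Iso.refl _) ≪≫ leftUnit _

/-- Bigness in the sense of Kodaira gives full growth. -/
theorem exists_growth {A L : X.Modules} {d : ℕ} (hd : topologicalKrullDim X = d)
    (hA : CohB1.IsAmple A) (hL : PicF.IsInvertible L) (hu : Kodaira.Unbdd k L d) :
    ∃ a m₀ : ℕ, 0 < a ∧ ∀ m, m₀ ≤ m → m ^ d ≤ a * h0 k X (CohB1.tensorPow L m) := by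
  haveI := Curves.GlobalSections.isNoetherian_of_proper k X
  exact Kodaira.growth (k := k) hd hA hL fun E hE =>
    Kodaira.exists_sections (k := k) hd hA hL hu hE.1

/-- Big is the same as positive volume. -/
theorem liminf_pos_iff {A L : X.Modules} {d : ℕ} (hd : topologicalKrullDim X = d)
    (hA : CohB1.IsAmple A) (hL : PicF.IsInvertible L) :
    0 < liminf (fun m : ℕ => (h0 k X (CohB1.tensorPow L m) : ℝ≥0∞) / (m : ℝ≥0∞) ^ d) atTop ↔
      0 < limsup (fun m : ℕ => (h0 k X (CohB1.tensorPow L m) : ℝ≥0∞) / (m : ℝ≥0∞) ^ d) atTop := by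
  refine ⟨fun h => h.trans_le liminf_le_limsup, fun h => ?_⟩
  haveI := Curves.GlobalSections.isNoetherian_of_proper k X
  obtain ⟨a, m₀, -, hg⟩ := exists_growth (k := k) hd hA hL (exists_large_of_limsup_pos h)
  exact liminf_pos_of_bound hg

/-- The volume is homogeneous. -/
theorem limsup_pow {A L : X.Modules} {d : ℕ} (hd : topologicalKrullDim X = d)
    (hA : CohB1.IsAmple A) (hL : PicF.IsInvertible L) {a : ℕ} (ha : 0 < a) :
    limsup (fun m : ℕ => (h0 k X (CohB1.tensorPow (CohB1.tensorPow L a) m) : ℝ≥0∞) /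
        (m : ℝ≥0∞) ^ d) atTop =
      (a : ℝ≥0∞) ^ d *
        limsup (fun m : ℕ => (h0 k X (CohB1.tensorPow L m) : ℝ≥0∞) / (m : ℝ≥0∞) ^ d) atTop := by
  haveI := Curves.GlobalSections.isNoetherian_of_proper k X
  simp only [h0_congr (Ample.Pow.powMul L a _)]
  by_cases hpos :
      0 < limsup (fun m : ℕ => (h0 k X (CohB1.tensorPow L m) : ℝ≥0∞) / (m : ℝ≥0∞) ^ d) atTop
  · obtain ⟨r₀, hr₀⟩ := Kodaira.exists_forall_pos (k := k) hA hL fun E hE =>
      Kodaira.exists_sections (k := k) hd hA hL (exists_large_of_limsup_pos hpos) hE.1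
    exact limsup_mul (h := fun m => h0 k X (CohB1.tensorPow L m)) ha fun m r hr =>
      Kodaira.h0_pow_le (k := k) hL m (hr₀ r hr)
  · have h0' := le_antisymm (not_lt.1 hpos) zero_le
    rw [h0', mul_zero]
    refine le_antisymm (not_lt.1 fun h => hpos ?_) zero_le
    have h1 := exists_large_of_limsup_pos (h := fun n => h0 k X (CohB1.tensorPow L (a * n))) h
    have h2 : Kodaira.Unbdd k L d := fun C m₀ => by
      obtain ⟨n, hn, hlt⟩ := h1 (C * a ^ d) m₀
      refine ⟨a * n, hn.trans (Nat.le_mul_of_pos_left n ha), ?_⟩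
      rw [mul_pow, ← mul_assoc]
      exact hlt.trans_le (Nat.mul_le_mul_right _ (Nat.le_mul_of_pos_left n ha))
    obtain ⟨b, m₀, -, hg⟩ := exists_growth (k := k) hd hA hL h2
    exact (liminf_pos_of_bound hg).trans_le liminf_le_limsup

end Groth.Agent.Lib.PosLin.Volume
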