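import Groth.Agent.Lib.PosLin.Asymp
import Groth.Agent.Lib.PosLin.Volume

/-!
# Twisting by a fixed invertible module does not change asymptotic cohomology
-/

set_option autoImplicit false
set_option linter.style.haveILetI false
set_option linter.unusedSectionVars false
universe u

open CategoryTheory CategoryTheory.Limits AlgebraicGeometry Filter

namespace Groth.Agent.Lib.PosLin.AsympTwist

open Groth.Agent.Lib Groth.Agent.Lib.Snapper Groth.Agent.Lib.PosLin.CohBound
  Groth.Agent.Lib.PosLin.Asymp
open Groth.Agent.Lib.PosLin.SectionBound (isCoh_twist_right)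
open Groth.Agent.Lib.TensorMod.Basic (tmap comm assoc tensorIso leftUnit rightUnit)
open Groth.Agent.Lib.TensorMod.Invertible (isInvertible_tensorPow isInvertible_tensorMod
  isInvertible_dual)

variable {k : Type u} [Field k] {X : Scheme.{u}} [X.Over (Spec (CommRingCat.of k))]
  [IsProper (X ↘ Spec (CommRingCat.of k))] {n : ℕ} (hn : topologicalKrullDim X = n)

/-- The two-sided comparison up to `O(m^{n-1})`. -/
def Near (k : Type u) [Field k] (X : Scheme.{u}) [X.Over (Spec (CommRingCat.of k))]
    (n : ℕ) (L F G : X.Modules) : Prop :=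
  ∀ i, ∃ K : ℕ, (n = 0 → K = 0) ∧ ∀ m,
    hseq k X F L i m ≤ hseq k X G L i m + K * (m + 1) ^ (n - 1) ∧
    hseq k X G L i m ≤ hseq k X F L i m + K * (m + 1) ^ (n - 1)

theorem hseq_congr {F F' : X.Modules} (e : F ≅ F') (L : X.Modules) (i m : ℕ) :
    hseq k X F L i m = hseq k X F' L i m :=
  hd_congr (k := k) (tensorIso e (Iso.refl _)) i

theorem Near.symm {L F G : X.Modules} (h : Near k X n L F G) : Near k X n L G F := fun i => by
  obtain ⟨K, h0, hK⟩ := h i
  exact ⟨K, h0, fun m => (hK m).symm⟩

theorem Near.trans {L F G H : X.Modules} (h : Near k X n L F G) (h' : Near k X n L G H) :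
    Near k X n L F H := fun i => by
  obtain ⟨K, h0, hK⟩ := h i
  obtain ⟨K', h0', hK'⟩ := h' i
  refine ⟨K + K', fun e => by rw [h0 e, h0' e], fun m => ?_⟩
  rw [add_mul]
  have := hK m
  have := hK' m
  constructor <;> omega

theorem Near.of_iso {L F G : X.Modules} (e : F ≅ G) : Near k X n L F G := fun i =>
  ⟨0, fun _ => rfl, fun m => by
    rw [hseq_congr e L i m]
    exact ⟨Nat.le_add_right _ _, Nat.le_add_right _ _⟩⟩

/-- A small quotient. -/
theorem Near.of_seq {A L : X.Modules} (hA : CohB1.IsAmple A) (hL : PicF.IsInvertible L)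
    {S : ShortComplex X.Modules} (hS : S.ShortExact) (h₁ : Coh.IsCoh S.X₁) (h₂ : Coh.IsCoh S.X₂)
    (h₃ : Coh.IsCoh S.X₃)
    (hs : ∀ x ∈ CohB1.support S.X₃, VarDim.Basic.pdim (X ↘ Spec (CommRingCat.of k)) x < n) :
    Near k X n L S.X₁ S.X₂ := fun i => by
  haveI := Curves.GlobalSections.isNoetherian_of_proper k X
  obtain ⟨K, hK0, hK⟩ := exists_bound_id (k := k) hA hL h₃ hs i
  obtain ⟨K', hK0', hK'⟩ := exists_bound_id (k := k) hA hL h₃ hs (i - 1)
  have hM := fun m => isInvertible_tensorPow hL m
  have hc : ∀ (G : X.Modules) (m j : ℕ),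
      hd k X (CohB1.tensorMod (CohB1.tensorPow L m) G) j = hseq k X G L j m :=
    fun G m j => hd_congr (k := k) (comm _ _) j
  refine ⟨K + K', fun h => by rw [hK0 h, hK0' h], fun m => ⟨?_, ?_⟩⟩
  · have := hd_left_le (k := k) (Twist.twistSeq_shortExact (hM m) hS) (Twist.isCoh_twist (hM m) h₁)
      (Twist.isCoh_twist (hM m) h₂) (Twist.isCoh_twist (hM m) h₃) i
    exact (hc S.X₁ m i).symm.le.trans (this.trans (add_le_add (hc S.X₂ m i).le
      ((hc S.X₃ m _).le.trans ((hK' m).trans (Nat.mul_le_mul_right _ (Nat.le_add_left _ K))))))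
  · have := hd_mid_le (k := k) (Twist.twistSeq_shortExact (hM m) hS) (Twist.isCoh_twist (hM m) h₁)
      (Twist.isCoh_twist (hM m) h₂) (Twist.isCoh_twist (hM m) h₃) i
    exact (hc S.X₂ m i).symm.le.trans (this.trans (add_le_add (hc S.X₁ m i).le
      ((hc S.X₃ m i).le.trans ((hK m).trans (Nat.mul_le_mul_right _ (Nat.le_add_right _ K'))))))

variable [IsIntegral X]

include hn

/-- A point other than the generic point has smaller dimension. -/
theorem pdim_lt_of_ne {x : X} (hx : x ≠ genericPoint X) :
    VarDim.Basic.pdim (X ↘ Spec (CommRingCat.of k)) x < n :=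
  (VarDim.Basic.pdim_lt _ ((genericPoint_spec X).specializes (Set.mem_univ x)) (Ne.symm hx))
    |>.trans_le (pdim_le_dim (k := k) hn _)

set_option maxHeartbeats 800000 in
/-- A module and its twist by an effective one are near. -/
theorem near_mul {A L G B : X.Modules} (hA : CohB1.IsAmple A) (hL : PicF.IsInvertible L)
    (hG : PicF.IsInvertible G) (hB : PicF.IsInvertible B) (u : Coh.structureModule X ⟶ B)
    (hu : genericPoint X ∈ CohB1.genLocus B u) : Near k X n L G (CohB1.tensorMod G B) := by
  haveI := Curves.GlobalSections.isNoetherian_of_proper k X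
  have hO := PicLoc.isInvertible_structureModule X
  haveI : Mono u := Curves.Positivity.mono_of_ne_zero hO hB
    (SurfInt.Pencil.ne_zero_of_mem_genLocus hB hu)
  let φ : G ⟶ CohB1.tensorMod G B := (UnifReg.Hyperplane.mulS u).app G
  haveI : Mono φ := by
    haveI : Mono (tmap (𝟙 G) u) :=
      (Twist.twistSeq_shortExact hG (Devissage.Basic.exists_ses_mono u)).mono_f
    exact inferInstanceAs (Mono ((rightUnit _).inv ≫ tmap (𝟙 G) u))
  have hGc := Ample.GG.isCoh_of_isInvertible hG
  have hGB := isCoh_twist_right hGc hB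
  have hQ : Coh.IsCoh (cokernel φ) := CohBasics.Closure.isCoh_cokernel φ hGc.1 hGB
  have hsmall : ∀ x ∈ CohB1.support (cokernel φ),
      VarDim.Basic.pdim (X ↘ Spec (CommRingCat.of k)) x < n := fun x hx =>
    pdim_lt_of_ne (k := k) hn fun e =>
      (UnifReg.Hyperplane.support_coker u G hx).1 (by rw [e]; exact hu)
  exact Near.of_seq (k := k) (S := ShortComplex.mk φ (cokernel.π φ) (cokernel.condition φ)) hA hL
    (Devissage.Basic.exists_ses_mono φ) hGc hGB hQ hsmall

/-- **All invertible modules are near.** -/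
theorem near_structure {A L G : X.Modules} (hA : CohB1.IsAmple A) (hL : PicF.IsInvertible L)
    (hG : PicF.IsInvertible G) : Near k X n L G (Coh.structureModule X) := by
  haveI := Curves.GlobalSections.isNoetherian_of_proper k X
  have hO := PicLoc.isInvertible_structureModule X
  obtain ⟨n₁, hn₁⟩ := Ample.GG.eventually_genAt_twist hA G (Ample.GG.isCoh_of_isInvertible hG)
  obtain ⟨n₂, hn₂⟩ := Ample.GG.eventually_genAt_twist hA (Coh.structureModule X)
    (Twist.isCoh_structureModule X)
  have hAN := isInvertible_tensorPow hA.1 (n₁ + n₂)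
  have hGA := isInvertible_tensorMod hG hAN
  obtain ⟨u, hu⟩ := Ample.GG.exists_genLocus_of_genAt hGA (hn₁ _ (by omega) (genericPoint X))
  obtain ⟨t, ht⟩ := Ample.GG.exists_genLocus_of_genAt (isInvertible_tensorMod hO hAN)
    (hn₂ (n₁ + n₂) (by omega) (genericPoint X))
  exact (near_mul (k := k) hn hA hL hG hAN (t ≫ (leftUnit _).hom)
    (by rw [Ample.GenLocus.genLocus_comp_iso]; exact ht)).trans
      ((near_mul (k := k) hn hA hL hO hGA u hu).trans (Near.of_iso (leftUnit _))).symm

/-- `dim H^i(L^{m+r})` and `dim H^i(L^m)` differ by `O(m^{n-1})`. -/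
theorem exists_shift_bound {A L : X.Modules} (hA : CohB1.IsAmple A) (hL : PicF.IsInvertible L)
    (i r : ℕ) : ∃ K : ℕ, (n = 0 → K = 0) ∧ ∀ m,
      hd k X (CohB1.tensorPow L (m + r)) i ≤
        hd k X (CohB1.tensorPow L m) i + K * (m + 1) ^ (n - 1) ∧
      hd k X (CohB1.tensorPow L m) i ≤
        hd k X (CohB1.tensorPow L (m + r)) i + K * (m + 1) ^ (n - 1) := by
  obtain ⟨K, hK0, hK⟩ := near_structure (k := k) hn hA hL (isInvertible_tensorPow hL r) i
  refine ⟨K, hK0, fun m => ?_⟩
  have h := hK m
  rw [show hseq k X (CohB1.tensorPow L r) L i m = hd k X (CohB1.tensorPow L (m + r)) i from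
    hd_congr (k := k) (comm _ _ ≪≫ (Ample.Pow.powAdd L m r).symm) i,
    show hseq k X (Coh.structureModule X) L i m = hd k X (CohB1.tensorPow L m) i from
    hd_congr (k := k) (leftUnit _) i] at h
  exact h

/-- The asymptotic cohomology is homogeneous. -/
theorem hhat_pow {A L : X.Modules} (hA : CohB1.IsAmple A) (hL : PicF.IsInvertible L) {a : ℕ}
    (ha : 0 < a) (i : ℕ) :
    W4c5asymptcohfn.hhat k X n i (CohB1.tensorPow L a) =
      (a : ℝ) ^ n * W4c5asymptcohfn.hhat k X n i L := by
  classical
  haveI := Curves.GlobalSections.isNoetherian_of_proper k X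
  set u : ℕ → ℕ := fun m => hd k X (CohB1.tensorPow L m) i with hu
  obtain ⟨B, hB⟩ : ∃ B, ∀ m, u m ≤ B * (m + 1) ^ n := by
    obtain ⟨B, hB⟩ := exists_bound_dim (k := k) hn hA hL (Twist.isCoh_structureModule X) i
    exact ⟨B, fun m => (hd_congr (k := k) (leftUnit _).symm i).le.trans (hB m)⟩
  rw [Asymp.hhat_eq, Asymp.hhat_eq]
  have h1 : (nrm n fun m => hd k X (CohB1.tensorPow (CohB1.tensorPow L a) m) i) =
      fun m => (a : ℝ) ^ n * nrm n u (a * m) := funext fun m => by
    have ha0 : (a : ℝ) ^ n ≠ 0 := pow_ne_zero _ (Nat.cast_ne_zero.2 ha.ne')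
    simp only [nrm, hu]
    rw [hd_congr (k := k) (Ample.Pow.powMul L a m) i, Nat.cast_mul, mul_pow, ← mul_div_assoc,
      mul_div_mul_left _ _ ha0]
  have hbd := bounded_nrm hB
  have hmul : Tendsto (fun m => a * m) atTop atTop :=
    tendsto_atTop_mono (fun m => Nat.le_mul_of_pos_left m ha) tendsto_id
  have hbd' : IsBoundedUnder (· ≤ ·) atTop (nrm n u ∘ fun m => a * m) := by
    obtain ⟨b, hb⟩ := hbd
    exact ⟨b, eventually_map.2 (hmul.eventually (eventually_map.1 hb))⟩
  have hcob' : IsCoboundedUnder (· ≤ ·) atTop (nrm n u ∘ fun m => a * m) :=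
    isCoboundedUnder_le_of_le atTop (x := 0) fun m => nrm_nonneg n u _
  have h2 : limsup (nrm n u ∘ fun m => a * m) atTop = limsup (nrm n u) atTop := by
    refine le_antisymm ?_ ?_
    · refine le_of_forall_gt_imp_ge_of_dense fun c hc => ?_
      exact limsup_le_of_le hcob' ((hmul.eventually (eventually_lt_of_limsup_lt hc hbd)).mono
        fun m hm => hm.le)
    · choose K hK0 hK using fun r => exists_shift_bound (k := k) hn hA hL i r
      set K' := ∑ r ∈ Finset.range a, K r with hK'
      have hK'0 : n = 0 → K' = 0 := fun e => Finset.sum_eq_zero fun r _ => hK0 r e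
      refine le_of_forall_pos_le_add fun ε hε => ?_
      have hdiv : Tendsto (fun m => m / a) atTop atTop := Nat.tendsto_div_const_atTop ha.ne'
      have he := (err_tendsto hK'0).eventually_le_const (half_pos hε)
      have hl := hdiv.eventually (eventually_lt_of_limsup_lt
        (lt_add_of_pos_right (limsup (nrm n u ∘ fun m => a * m) atTop) (half_pos hε)) hbd')
      refine limsup_le_of_le (cobounded_nrm n u) ?_
      filter_upwards [he, hl, eventually_ge_atTop a] with m h3 h4 h5
      set q := m / a with hq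
      have hq0 : 0 < a * q := Nat.mul_pos ha (Nat.div_pos h5 ha)
      have hqm : a * q ≤ m := Nat.mul_div_le m a
      have h6 : u m ≤ u (a * q) + K' * (m + 1) ^ (n - 1) := by
        have h := (hK (m % a) (a * q)).1
        rw [Nat.div_add_mod] at h
        exact h.trans (Nat.add_le_add_left (Nat.mul_le_mul
          (Finset.single_le_sum (fun r _ => Nat.zero_le (K r))
            (Finset.mem_range.2 (Nat.mod_lt m ha)))
          (Nat.pow_le_pow_left (by omega) _)) _)
      have h7 : nrm n u m ≤ (nrm n u ∘ fun m => a * m) q +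
          nrm n (fun m => K' * (m + 1) ^ (n - 1)) m := by
        simp only [nrm, Function.comp_apply]
        refine le_trans ?_ (add_le_add (div_le_div_of_nonneg_left (by positivity)
          (pow_pos (Nat.cast_pos.2 hq0) n) (pow_le_pow_left₀ (Nat.cast_nonneg _)
            (Nat.cast_le.2 hqm) n)) le_rfl)
        rw [← add_div, ← add_mul]
        gcongr
        exact_mod_cast h6
      calc nrm n u m ≤ _ := h7
        _ ≤ _ := add_le_add h4.le h3
        _ = _ := by ring
  rw [h1, ← h2]
  exact ((monotone_mul_left_of_nonneg (pow_nonneg (Nat.cast_nonneg a) n)).map_limsup_of_continuousAt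
    (nrm n u ∘ fun m => a * m) (continuous_const_mul _).continuousAt hbd' hcob').symm

end Groth.Agent.Lib.PosLin.AsympTwist
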