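import Groth.Agent.Lib.PosLin.SectionBound
import Groth.Agent.Lib.Ideal.Prime
import Groth.Agent.Lib.Devissage.Dim
import Groth.Agent.Lib.Ample.Pullback

/-!
# Bounds for all cohomology groups of the powers of an invertible module

For `f : Y ⟶ X` proper, `L` invertible on `X` and `F` coherent on `Y` with `f (Supp F)` of dimension
less than `r`, `dim H^i(Y, f^*L^m ⊗ F) = O(m^{r-1})`.
-/

set_option autoImplicit false
set_option linter.style.haveILetI false
set_option linter.unusedSectionVars false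
universe u

open CategoryTheory CategoryTheory.Limits AlgebraicGeometry

namespace Groth.Agent.Lib.PosLin.CohBound

open Groth.Agent.Lib Groth.Agent.Lib.Snapper Groth.Agent.Lib.PosLin.SectionBound
open Groth.Agent.Lib.TensorMod.Basic (tmap comm assoc tensorIso leftUnit rightUnit)
open Groth.Agent.Lib.TensorMod.Invertible (isInvertible_tensorPow isInvertible_tensorMod
  isInvertible_dual tensorDualIso)
open Groth.Agent.Lib.Curves.LES (toAbMap mapK isoK exactK₁ exactK₂ exactK₃ δK mapK_injective_of_mono)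

/-- Arithmetic recursion. -/
theorem rec_bound {P : ℕ → ℕ} {e g s : ℕ} (he : 0 < e)
    (h : ∀ m, P (m + e) ≤ P m + g * (m + e + 1) ^ s) :
    ∀ m, P m ≤ (∑ j ∈ Finset.range e, P j) + g * m * (m + 1) ^ s := by
  intro m
  induction m using Nat.strong_induction_on with
  | _ m ih =>
    by_cases hm : m < e
    · exact (Finset.single_le_sum (fun j _ => Nat.zero_le (P j)) (Finset.mem_range.2 hm)).trans
        (Nat.le_add_right _ _)
    · obtain ⟨n, rfl⟩ : ∃ n, m = n + e := ⟨m - e, by omega⟩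
      refine (h n).trans ((Nat.add_le_add_right (ih n (by omega)) _).trans ?_)
      rw [add_assoc]
      refine Nat.add_le_add_left ?_ _
      calc g * n * (n + 1) ^ s + g * (n + e + 1) ^ s
          ≤ g * n * (n + e + 1) ^ s + g * (n + e + 1) ^ s :=
            Nat.add_le_add_right (Nat.mul_le_mul_left _ (Nat.pow_le_pow_left (by omega) s)) _
        _ = g * (n + 1) * (n + e + 1) ^ s := by ring
        _ ≤ g * (n + e) * (n + e + 1) ^ s :=
            Nat.mul_le_mul_right _ (Nat.mul_le_mul_left _ (by omega))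

section Ineq

variable {k : Type u} [Field k] {Y : Scheme.{u}} [Y.Over (Spec (CommRingCat.of k))]
  [IsProper (Y ↘ Spec (CommRingCat.of k))]

/-- `dim_k H^i`. -/
noncomputable abbrev hd (k : Type u) [Field k] (Y : Scheme.{u})
    [Y.Over (Spec (CommRingCat.of k))] (M : Y.Modules) (i : ℕ) : ℕ :=
  Module.finrank k (Coh.HH Y M i)

include k in
theorem subsingleton_HH_isZero {F : Y.Modules} (h : IsZero F) (i : ℕ) :
    Subsingleton (Coh.HH Y F i) := by
  refine subsingleton_of_forall_eq 0 fun x => ?_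
  have h1 : Curves.LES.mapK k (𝟙 F) i x = x := by rw [Curves.LES.mapK_id]; rfl
  have h2 : Curves.LES.mapK k (0 : F ⟶ F) i x = 0 := by
    show Sheaf.H.map (toAbMap (0 : F ⟶ F)) i x = 0
    rw [toAbMap, Functor.map_zero]
    show Abelian.Ext.comp x (Abelian.Ext.mk₀ 0) (add_zero i) = 0
    rw [Abelian.Ext.mk₀_zero, Abelian.Ext.comp_zero]
  rw [← h1, h.eq_of_src (𝟙 F) 0, h2]

theorem hd_congr {A B : Y.Modules} (e : A ≅ B) (i : ℕ) : hd k Y A i = hd k Y B i :=
  (isoK k e i).finrank_eq

theorem finrank_le_add {U V W : Type*} [AddCommGroup U] [Module k U] [AddCommGroup V] [Module k V]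
    [AddCommGroup W] [Module k W] [FiniteDimensional k U] [FiniteDimensional k V]
    [FiniteDimensional k W] (f : U →ₗ[k] V) (g : V →ₗ[k] W) (h : Function.Exact f g) :
    Module.finrank k V ≤ Module.finrank k U + Module.finrank k W := by
  rw [← LinearMap.finrank_range_add_finrank_ker g, LinearMap.exact_iff.mp h, add_comm]
  exact add_le_add (LinearMap.finrank_range_le _) (Submodule.finrank_le _)

variable {S : ShortComplex Y.Modules} (hS : S.ShortExact) (h₁ : Coh.IsCoh S.X₁)
  (h₂ : Coh.IsCoh S.X₂) (h₃ : Coh.IsCoh S.X₃)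

include hS h₁ h₂ h₃

theorem hd_mid_le (i : ℕ) : hd k Y S.X₂ i ≤ hd k Y S.X₁ i + hd k Y S.X₃ i :=
  haveI := Curves.GlobalSections.isNoetherian_of_proper k Y
  haveI := Finite.cohFinite k Y _ h₁ i
  haveI := Finite.cohFinite k Y _ h₂ i
  haveI := Finite.cohFinite k Y _ h₃ i
  finrank_le_add _ _ (exactK₂ k hS i)

theorem hd_left_le (i : ℕ) : hd k Y S.X₁ i ≤ hd k Y S.X₂ i + hd k Y S.X₃ (i - 1) := by
  haveI := Curves.GlobalSections.isNoetherian_of_proper k Y
  haveI := Finite.cohFinite k Y _ h₁ i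
  haveI := Finite.cohFinite k Y _ h₂ i
  haveI := Finite.cohFinite k Y _ h₃ (i - 1)
  cases i with
  | zero =>
    haveI := hS.mono_f
    exact (LinearMap.finrank_le_finrank_of_injective (mapK_injective_of_mono k S.f)).trans
      (Nat.le_add_right _ _)
  | succ i =>
    haveI : FiniteDimensional k (Coh.HH Y S.X₃ i) := Finite.cohFinite k Y _ h₃ i
    have h := finrank_le_add _ _ (exactK₁ k hS i (i + 1) rfl)
    rw [Nat.add_sub_cancel]
    exact h.trans (Nat.add_comm _ _).le

theorem hd_right_le (i : ℕ) : hd k Y S.X₃ i ≤ hd k Y S.X₂ i + hd k Y S.X₁ (i + 1) :=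
  haveI := Curves.GlobalSections.isNoetherian_of_proper k Y
  haveI := Finite.cohFinite k Y _ h₂ i
  haveI := Finite.cohFinite k Y _ h₃ i
  haveI := Finite.cohFinite k Y _ h₁ (i + 1)
  finrank_le_add _ _ (exactK₃ k hS i (i + 1) rfl)

end Ineq

section Seq

variable {Y : Scheme.{u}} [AlgebraicGeometry.IsNoetherian Y]

/-- Multiplication by a section without zeros at the associated points. -/
theorem exists_mulSeq {F E : Y.Modules} (hF : Coh.IsCoh F) (hE : PicF.IsInvertible E)
    (s : Coh.structureModule Y ⟶ E)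
    (hs : ∀ x, Curv2.IsAssPoint F x → x ∈ CohB1.genLocus E s) :
    ∃ (Q : Y.Modules) (φ : F ⟶ CohB1.tensorMod F E) (π : CohB1.tensorMod F E ⟶ Q)
      (w : φ ≫ π = 0), (ShortComplex.mk φ π w).ShortExact ∧ Coh.IsCoh Q ∧
        ∀ x ∈ CohB1.support Q, x ∉ CohB1.genLocus E s ∧ x ∈ CohB1.support F := by
  let φ : F ⟶ CohB1.tensorMod F E := (UnifReg.Hyperplane.mulS s).app F
  haveI : Mono φ := UnifReg.Hyperplane.mono_mulS s hF.1 hs
  refine ⟨cokernel φ, φ, cokernel.π φ, cokernel.condition φ,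
    Devissage.Basic.exists_ses_mono φ,
    CohBasics.Closure.isCoh_cokernel φ hF.1 (isCoh_twist_right hF hE), fun x hx => ?_⟩
  obtain ⟨h1, h2⟩ := UnifReg.Hyperplane.support_coker s F hx
  refine ⟨h1, ?_⟩
  have h3 : x ∈ CohB1.support (CohB1.tensorMod F E) := h2
  rwa [Modules.Support.support_congr (comm F E), Twist.support_twist hE] at h3

end Seq

section Main

variable {k : Type u} [Field k] {X Y : Scheme.{u}} [X.Over (Spec (CommRingCat.of k))]
  [Y.Over (Spec (CommRingCat.of k))] [IsProper (X ↘ Spec (CommRingCat.of k))]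
  [IsProper (Y ↘ Spec (CommRingCat.of k))] (f : Y ⟶ X) [IsProper f]

variable (k) in
/-- The image of the support has dimension less than `r`. -/
def Small (F : Y.Modules) (r : ℕ) : Prop :=
  ∀ y ∈ CohB1.support F, VarDim.Basic.pdim (X ↘ Spec (CommRingCat.of k)) (f y) < r

theorem isCoh_twist_pb {F : Y.Modules} (hF : Coh.IsCoh F) {P : X.Modules}
    (hP : PicF.IsInvertible P) :
    Coh.IsCoh (CohB1.tensorMod ((Scheme.Modules.pullback f).obj P) F) :=
  Twist.isCoh_twist (PicLoc.isInvertible_pullback f hP) hF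

include k in
/-- Avoiding finitely many points by a section of `C` with `L^e ⊗ C ≅ A^N` and one of `A^N`. -/
theorem exists_avoiding_pair {A L : X.Modules} (hA : CohB1.IsAmple A) (hL : PicF.IsInvertible L)
    {Z : Set X} (hZ : Z.Finite) :
    ∃ (N e : ℕ) (C : X.Modules) (s : Coh.structureModule X ⟶ C)
      (u : Coh.structureModule X ⟶ CohB1.tensorPow A N), 0 < e ∧ PicF.IsInvertible C ∧
      Z ⊆ CohB1.genLocus C s ∧ Z ⊆ CohB1.genLocus _ u ∧
      Nonempty (CohB1.tensorMod (CohB1.tensorPow L e) C ≅ CohB1.tensorPow A N) := by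
  haveI := Curves.GlobalSections.isNoetherian_of_proper k X
  obtain ⟨N, e, C, s, hN, he, hC, hs, ⟨i⟩⟩ := SectionBound.exists_avoiding hA hL hZ
  obtain ⟨n, hn, u, hu, -, -⟩ := Ample.Basis.exists_locus_of_finite hA Z hZ ⊤ (fun _ _ => trivial)
  refine ⟨N * n, e * n, CohB1.tensorPow C n, SecTwist.powHom s n,
    SecTwist.powHom u N ≫ (Ample.Pow.powMul A n N ≪≫
      Ample.Pow.powCongr A (Nat.mul_comm n N)).hom,
    Nat.mul_pos he hn, isInvertible_tensorPow hC n, ?_, ?_, ⟨?_⟩⟩
  · rw [Ample.GenLocus.genLocus_powHom hC s n hn]; exact hs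
  · rw [Ample.GenLocus.genLocus_comp_iso,
      Ample.GenLocus.genLocus_powHom (isInvertible_tensorPow hA.1 n) u N hN]
    exact hu
  · exact tensorIso (Ample.Pow.powMul L e n).symm (Iso.refl _) ≪≫
      (Ample.Pow.powTensor _ C n).symm ≪≫ Ample.Pow.powIso i n ≪≫ Ample.Pow.powMul A N n

/-- One step of the recursion. -/
theorem step_le {F Qs Qu : Y.Modules} {L C P : X.Modules} {e : ℕ} (hL : PicF.IsInvertible L)
    (hF : Coh.IsCoh F) (hC : PicF.IsInvertible C) (hP : PicF.IsInvertible P)
    (iC : CohB1.tensorMod (CohB1.tensorPow L e) C ≅ P)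
    {φs : F ⟶ CohB1.tensorMod F ((Scheme.Modules.pullback f).obj C)}
    {πs : CohB1.tensorMod F ((Scheme.Modules.pullback f).obj C) ⟶ Qs} {ws : φs ≫ πs = 0}
    (hSs : (ShortComplex.mk φs πs ws).ShortExact) (hQs : Coh.IsCoh Qs)
    {φu : F ⟶ CohB1.tensorMod F ((Scheme.Modules.pullback f).obj P)}
    {πu : CohB1.tensorMod F ((Scheme.Modules.pullback f).obj P) ⟶ Qu} {wu : φu ≫ πu = 0}
    (hSu : (ShortComplex.mk φu πu wu).ShortExact) (hQu : Coh.IsCoh Qu) (i m : ℕ) :
    hd k Y (CohB1.tensorMod ((Scheme.Modules.pullback f).obj (CohB1.tensorPow L (m + e))) F) i ≤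
      hd k Y (CohB1.tensorMod ((Scheme.Modules.pullback f).obj (CohB1.tensorPow L m)) F) i +
      (hd k Y (CohB1.tensorMod ((Scheme.Modules.pullback f).obj (CohB1.tensorPow L (m + e))) Qs)
          (i - 1) +
        hd k Y (CohB1.tensorMod ((Scheme.Modules.pullback f).obj (CohB1.tensorPow L m)) Qu) i) := by
  haveI := Curves.GlobalSections.isNoetherian_of_proper k Y
  have hMe := PicLoc.isInvertible_pullback f (isInvertible_tensorPow hL (m + e))
  have hMm := PicLoc.isInvertible_pullback f (isInvertible_tensorPow hL m)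
  have hFC := isCoh_twist_right hF (PicLoc.isInvertible_pullback f hC)
  have hFA := isCoh_twist_right hF (PicLoc.isInvertible_pullback f hP)
  let Me := (Scheme.Modules.pullback f).obj (CohB1.tensorPow L (m + e))
  let Mm := (Scheme.Modules.pullback f).obj (CohB1.tensorPow L m)
  let eMM : CohB1.tensorMod Me ((Scheme.Modules.pullback f).obj C) ≅
      CohB1.tensorMod Mm ((Scheme.Modules.pullback f).obj P) :=
    (TensorMod.Pullback.pullbackTensorIso f _ _).symm ≪≫
      (Scheme.Modules.pullback f).mapIso (tensorIso (Ample.Pow.powAdd L m e) (Iso.refl C) ≪≫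
        assoc _ _ _ ≪≫ tensorIso (Iso.refl _) iC) ≪≫
      TensorMod.Pullback.pullbackTensorIso f _ _
  let eswap : CohB1.tensorMod Me (CohB1.tensorMod F ((Scheme.Modules.pullback f).obj C)) ≅
      CohB1.tensorMod Mm (CohB1.tensorMod F ((Scheme.Modules.pullback f).obj P)) :=
    tensorIso (Iso.refl _) (comm _ _) ≪≫ (assoc _ _ _).symm ≪≫ tensorIso eMM (Iso.refl F) ≪≫
      assoc _ _ _ ≪≫ tensorIso (Iso.refl _) (comm _ _)
  have l1 := hd_left_le (k := k) (Twist.twistSeq_shortExact hMe hSs) (Twist.isCoh_twist hMe hF)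
    (Twist.isCoh_twist hMe hFC) (Twist.isCoh_twist hMe hQs) i
  have l2 := hd_mid_le (k := k) (Twist.twistSeq_shortExact hMm hSu) (Twist.isCoh_twist hMm hF)
    (Twist.isCoh_twist hMm hFA) (Twist.isCoh_twist hMm hQu) i
  exact l1.trans ((Nat.add_le_add_right ((hd_congr (k := k) eswap i).le.trans l2) _).trans
    (le_of_eq ((Nat.add_assoc _ _ _).trans (congrArg _ (Nat.add_comm _ _)))))

/-- **The bound.** -/
theorem exists_bound {A L : X.Modules} (hA : CohB1.IsAmple A) (hL : PicF.IsInvertible L) :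
    ∀ (r : ℕ) (F : Y.Modules), Coh.IsCoh F → Small k f F r → ∀ i : ℕ,
      ∃ K : ℕ, (r = 0 → K = 0) ∧ ∀ m : ℕ,
        hd k Y (CohB1.tensorMod ((Scheme.Modules.pullback f).obj (CohB1.tensorPow L m)) F) i ≤
          K * (m + 1) ^ (r - 1) := by
  haveI := Curves.GlobalSections.isNoetherian_of_proper k X
  haveI := Curves.GlobalSections.isNoetherian_of_proper k Y
  intro r
  induction r with
  | zero =>
    intro F _ hsmall i
    refine ⟨0, fun _ => rfl, fun m => ?_⟩
    have hz : IsZero (CohB1.tensorMod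
        ((Scheme.Modules.pullback f).obj (CohB1.tensorPow L m)) F) := by
      rw [← Modules.Support.support_eq_empty_iff,
        Twist.support_twist (PicLoc.isInvertible_pullback f (isInvertible_tensorPow hL m))]
      exact Set.eq_empty_iff_forall_notMem.2 fun y hy => Nat.not_lt_zero _ (hsmall y hy)
    haveI : Subsingleton (Coh.HH Y (CohB1.tensorMod
        ((Scheme.Modules.pullback f).obj (CohB1.tensorPow L m)) F) i) := by
      exact subsingleton_HH_isZero (k := k) hz i
    simp [hd, Module.finrank_zero_of_subsingleton]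
  | succ r ih =>
    intro F hF hsmall i
    have hT : IsClosed (f '' CohB1.support F) :=
      f.isClosedMap _ (haveI := hF.2; Modules.Support.isClosed_support F)
    let Zm : Set X := {x | x ∈ f '' CohB1.support F ∧ ∀ z ∈ f '' CohB1.support F, z ⤳ x → z = x}
    let Z : Set X := Zm ∪ f '' {y | Curv2.IsAssPoint F y}
    have hZ : Z.Finite := (Devissage.Dim.finite_maximal hT).union
      ((UnifReg.Hyperplane.finite_assPoints hF).image f)
    obtain ⟨N, e, C, s, u, he, hC, hsZ, huZ, ⟨iC⟩⟩ := exists_avoiding_pair (k := k) hA hL hZ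
    have hAN := isInvertible_tensorPow hA.1 N
    -- the two quotients
    have key : ∀ {P : X.Modules} (hP : PicF.IsInvertible P) (t : Coh.structureModule X ⟶ P),
        Z ⊆ CohB1.genLocus P t → ∃ (Q : Y.Modules) (φ : F ⟶ CohB1.tensorMod F
          ((Scheme.Modules.pullback f).obj P)) (π : CohB1.tensorMod F
          ((Scheme.Modules.pullback f).obj P) ⟶ Q) (w : φ ≫ π = 0),
          (ShortComplex.mk φ π w).ShortExact ∧ Coh.IsCoh Q ∧ Small k f Q r := by
      intro P hP t ht
      let t' := (PicLoc.pullbackStructureIso f).inv ≫ (Scheme.Modules.pullback f).map t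
      have hloc : CohB1.genLocus _ t' = f ⁻¹ᵁ CohB1.genLocus P t :=
        Ample.GenLocus.genLocus_pullback f hP t (PicLoc.pullbackStructureIso f).symm
      obtain ⟨Q, φ, π, w, hS, hQ, hsupp⟩ := exists_mulSeq hF (PicLoc.isInvertible_pullback f hP) t'
        (fun y hy => by rw [hloc]; exact ht (Or.inr ⟨y, hy, rfl⟩))
      refine ⟨Q, φ, π, w, hS, hQ, fun y hy => ?_⟩
      obtain ⟨h1, h2⟩ := hsupp y hy
      rw [hloc] at h1
      obtain ⟨z, hz, hzy, hmax⟩ := Ideal.Prime.exists_maximal_generization hT ⟨y, h2, rfl⟩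
      have hne : z ≠ f y := fun e => h1 (ht (Or.inl (e ▸ ⟨hz, hmax⟩)))
      have hlt := VarDim.Basic.pdim_lt (X ↘ Spec (CommRingCat.of k)) hzy hne
      obtain ⟨y', hy', hfy'⟩ := hz
      have := hsmall y' hy'
      rw [hfy'] at this
      omega
    obtain ⟨Qs, φs, πs, ws, hSs, hQs, hQs'⟩ := key hC s hsZ
    obtain ⟨Qu, φu, πu, wu, hSu, hQu, hQu'⟩ := key hAN u huZ
    obtain ⟨Ks, hKs0, hKs⟩ := ih Qs hQs hQs' (i - 1)
    obtain ⟨Ku, hKu0, hKu⟩ := ih Qu hQu hQu' i
    let M : ℕ → Y.Modules := fun m => (Scheme.Modules.pullback f).obj (CohB1.tensorPow L m)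
    let P : ℕ → ℕ := fun m => hd k Y (CohB1.tensorMod (M m) F) i
    have hstep : ∀ m, P (m + e) ≤ P m + (Ks + Ku) * (m + e + 1) ^ (r - 1) := by
      intro m
      have h := step_le (k := k) f hL hF hC hAN iC hSs hQs hSu hQu i m
      have h1 := hKs (m + e)
      have h2 := (hKu m).trans (Nat.mul_le_mul_left Ku
        (Nat.pow_le_pow_left (show m + 1 ≤ m + e + 1 by omega) (r - 1)))
      exact h.trans (le_of_le_of_eq (Nat.add_le_add_left (Nat.add_le_add h1 h2) _)
        (by rw [Nat.add_mul]))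
    refine ⟨(∑ j ∈ Finset.range e, P j) + (Ks + Ku), fun h => absurd h r.succ_ne_zero, fun m => ?_⟩
    refine (rec_bound he hstep m).trans ?_
    rw [Nat.add_sub_cancel, add_mul (∑ j ∈ Finset.range e, P j)]
    refine add_le_add (Nat.le_mul_of_pos_right _ (pow_pos m.succ_pos r)) ?_
    cases r with
    | zero => simp [hKs0 rfl, hKu0 rfl]
    | succ r =>
      rw [Nat.add_sub_cancel, mul_assoc, pow_succ']
      exact Nat.mul_le_mul_left _ (Nat.mul_le_mul_right _ (Nat.le_succ m))

end Main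

end Groth.Agent.Lib.PosLin.CohBound
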