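import Groth.Agent.Lib.UnifReg.Hyperplane
import Groth.Agent.Lib.AssPt.Basic
import Groth.Agent.Lib.SurfInt.AmpleVanish
import Groth.Agent.Lib.SurfInt.Bound
import Groth.Agent.Lib.SurfInt.Pencil
import Groth.Agent.Lib.Snapper.Poly
import Groth.Agent.Lib.Snapper.Finite
import Groth.Agent.Lib.IntTheory.Positive
import Groth.Agent.Lib.Ample.Basis
import Groth.Agent.Lib.Curves.Positivity
import Mathlib.Data.Nat.Choose.Bounds

/-!
# Bounds for the number of sections of the powers of an invertible module
-/

set_option autoImplicit false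
set_option linter.style.haveILetI false
set_option linter.unusedSectionVars false
universe u

open CategoryTheory CategoryTheory.Limits AlgebraicGeometry

namespace Groth.Agent.Lib.PosLin.SectionBound

open Groth.Agent.Lib Groth.Agent.Lib.Snapper
open Groth.Agent.Lib.Snapper.Vanish (sym)
open Groth.Agent.Lib.TensorMod.Basic (tmap comm assoc tensorIso leftUnit rightUnit)
open Groth.Agent.Lib.TensorMod.Invertible (isInvertible_tensorPow isInvertible_tensorMod
  isInvertible_dual tensorDualIso)
open Groth.Agent.Lib.Curves.LES (mapK isoK mapK_injective_of_mono)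

variable {k : Type u} [Field k] {X : Scheme.{u}} [X.Over (Spec (CommRingCat.of k))]
  [IsProper (X ↘ Spec (CommRingCat.of k))] [AlgebraicGeometry.IsNoetherian X]

/-- `dim_k H⁰`. -/
noncomputable abbrev h0 (k : Type u) [Field k] (X : Scheme.{u})
    [X.Over (Spec (CommRingCat.of k))] (M : X.Modules) : ℕ :=
  Module.finrank k (Coh.HH X M 0)

omit [IsProper (X ↘ Spec (CommRingCat.of k))] [AlgebraicGeometry.IsNoetherian X] in
theorem h0_congr {A B : X.Modules} (e : A ≅ B) : h0 k X A = h0 k X B :=
  (isoK k e 0).finrank_eq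

theorem isCoh_twist_right {F M : X.Modules} (hF : Coh.IsCoh F) (hM : PicF.IsInvertible M) :
    Coh.IsCoh (CohB1.tensorMod F M) :=
  CohBasics.Closure.isCoh_of_iso (comm M F) (Twist.isCoh_twist hM hF)

/-- A monomorphism into a coherent module can only increase `h⁰`. -/
theorem h0_le_of_mono {A B : X.Modules} (hB : Coh.IsCoh B) (φ : A ⟶ B) [Mono φ] :
    h0 k X A ≤ h0 k X B :=
  haveI : FiniteDimensional k (Coh.HH X B 0) := Finite.cohFinite k X B hB 0
  LinearMap.finrank_le_finrank_of_injective (f := mapK k φ 0) (mapK_injective_of_mono k _)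

/-- A section without zero at the associated points only increases `h⁰`. -/
theorem h0_le_twist {F E : X.Modules} (hF : Coh.IsCoh F) (hE : PicF.IsInvertible E)
    (s : Coh.structureModule X ⟶ E)
    (hs : ∀ x, Curv2.IsAssPoint F x → x ∈ CohB1.genLocus E s) :
    h0 k X F ≤ h0 k X (CohB1.tensorMod F E) := by
  let φ : F ⟶ CohB1.tensorMod F E := (UnifReg.Hyperplane.mulS s).app F
  haveI : Mono φ := UnifReg.Hyperplane.mono_mulS s hF.1 hs
  exact h0_le_of_mono (k := k) (isCoh_twist_right hF hE) φ

/-- On an integral scheme a nonzero section of an invertible module only increases `h⁰` of an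
invertible module. -/
theorem h0_le_twist_invertible [IsIntegral X] {G E : X.Modules} (hG : PicF.IsInvertible G)
    (hE : PicF.IsInvertible E) (s : Coh.structureModule X ⟶ E) (hs : s ≠ 0) :
    h0 k X G ≤ h0 k X (CohB1.tensorMod G E) := by
  haveI : Mono s :=
    Curves.Positivity.mono_of_ne_zero (PicLoc.isInvertible_structureModule X) hE hs
  haveI : Mono (tmap (𝟙 G) s) :=
    (Twist.twistSeq_shortExact hG (Devissage.Basic.exists_ses_mono s)).mono_f
  exact h0_le_of_mono (k := k) (isCoh_twist_right (Ample.GG.isCoh_of_isInvertible hG) hE)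
    ((rightUnit G).inv ≫ tmap (𝟙 G) s)

/-- The multiple `L^{⊗ (e q)}` of a twist is a power. -/
noncomputable def powSplit (F L : X.Modules) (e q r : ℕ) :
    CohB1.tensorMod F (CohB1.tensorPow L (r + e * q)) ≅
      CohB1.tensorMod (CohB1.tensorMod F (CohB1.tensorPow L r))
        (CohB1.tensorPow (CohB1.tensorPow L e) q) :=
  tensorIso (Iso.refl F) (Ample.Pow.powAdd L r (e * q) ≪≫
    tensorIso (Iso.refl _) (Ample.Pow.powMul L e q).symm) ≪≫ (assoc _ _ _).symm

/-- `|χ(F ⊗ Aⁿ)| = O((n+1)^r)` when `F` has support of dimension at most `r`. -/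
theorem exists_chi_bound {F A : X.Modules} {d r : ℕ} (hd : topologicalKrullDim X ≤ d)
    (hF : Coh.IsCoh F) (hA : PicF.IsInvertible A)
    (hr : topologicalKrullDim (CohB1.support F) ≤ r) :
    ∃ K : ℕ, ∀ q : ℕ, FGA.eulerCharLE k X (CohB1.tensorMod (CohB1.tensorPow A q) F) d ≤
      (K * (q + 1) ^ r : ℕ) := by
  have hfin := Finite.cohFinite k X
  refine ⟨∑ i ∈ Finset.range (r + 1), (sym k X d (List.replicate i A) F).natAbs, fun q => ?_⟩
  show sym k X d [] _ ≤ _
  rw [Poly.sym_pow_expansion]
  have hterm : ∀ i ∈ Finset.range (q + 1),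
      (-1 : ℤ) ^ i * (q.choose i : ℤ) * sym k X d (List.replicate i A ++ []) F ≤
        if i < r + 1 then ((sym k X d (List.replicate i A) F).natAbs : ℤ) * ((q + 1) ^ r : ℕ) else 0 := by
    intro i _
    rw [List.append_nil]
    split_ifs with hi
    · refine le_trans (le_abs_self _) ?_
      rw [abs_mul, abs_mul, abs_pow, abs_neg, abs_one, one_pow, one_mul, Nat.abs_cast,
        Int.abs_eq_natAbs, mul_comm]
      refine mul_le_mul_of_nonneg_left ?_ (Int.natCast_nonneg _)
      exact_mod_cast ((Nat.choose_le_pow q i).trans (Nat.pow_le_pow_left (Nat.le_succ q) i)).trans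
        (Nat.pow_le_pow_right q.succ_pos (Nat.lt_succ_iff.1 hi))
    · rw [Vanish.sym_eq_zero hfin hd _ (fun M hM => (List.mem_replicate.1 hM).2 ▸ hA) F hF
        (hr.trans_lt (by rw [List.length_replicate]; exact_mod_cast (not_lt.1 hi))), mul_zero]
  refine (Finset.sum_le_sum hterm).trans ?_
  rw [← Finset.sum_filter, Nat.cast_mul, Nat.cast_sum, Finset.sum_mul]
  exact Finset.sum_le_sum_of_subset_of_nonneg
    (fun i hi => Finset.mem_range.2 (Finset.mem_filter.1 hi).2) fun i _ _ => by positivity

/-- In large degree `χ` of an ample twist counts sections. -/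
theorem exists_chi_eq_h0 {F A : X.Modules} (d : ℕ) (hF : Coh.IsCoh F) (hA : CohB1.IsAmple A) :
    ∃ q₀ : ℕ, ∀ q, q₀ ≤ q → FGA.eulerCharLE k X (CohB1.tensorMod (CohB1.tensorPow A q) F) d =
      (h0 k X (CohB1.tensorMod F (CohB1.tensorPow A q)) : ℤ) := by
  obtain ⟨q₀, hq₀⟩ := SurfInt.AmpleVanish.exists_subsingleton (k := k) hA hF
  refine ⟨q₀, fun q hq => ?_⟩
  unfold FGA.eulerCharLE
  rw [Finset.sum_range_succ']
  have h0' : ∀ i, Module.finrank k
      (Coh.HH X (CohB1.tensorMod (CohB1.tensorPow A q) F) (i + 1)) = 0 := fun i => by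
    haveI := hq₀ q hq i
    rw [(isoK k (comm (CohB1.tensorPow A q) F) (i + 1)).finrank_eq]
    exact Module.finrank_zero_of_subsingleton
  simp only [h0', Nat.cast_zero, mul_zero, Finset.sum_const_zero, zero_add, pow_zero, one_mul]
  exact_mod_cast (isoK k (comm (CohB1.tensorPow A q) F) 0).finrank_eq

/-- A power of the dual of `L` twisted by a power of an ample module has a section avoiding any
given finite set. -/
theorem exists_avoiding {A L : X.Modules} (hA : CohB1.IsAmple A) (hL : PicF.IsInvertible L)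
    {Z : Set X} (hZ : Z.Finite) :
    ∃ (N e : ℕ) (C : X.Modules) (s : Coh.structureModule X ⟶ C), 0 < N ∧ 0 < e ∧
      PicF.IsInvertible C ∧ Z ⊆ CohB1.genLocus C s ∧
      Nonempty (CohB1.tensorMod (CohB1.tensorPow L e) C ≅ CohB1.tensorPow A N) := by
  obtain ⟨n₀, hn₀, hn⟩ := Ample.GG.exists_isAmple_isGloballyGenerated hA (isInvertible_dual hL)
  have hB := (hn n₀ le_rfl).1
  obtain ⟨e, he, s, hs, -, -⟩ := Ample.Basis.exists_locus_of_finite hB Z hZ ⊤ (fun _ _ => trivial)
  refine ⟨n₀ * e, e, _, s, Nat.mul_pos hn₀ he, he, isInvertible_tensorPow hB.1 e, hs, ⟨?_⟩⟩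
  exact (Ample.Pow.powTensor L _ e).symm ≪≫
    Ample.Pow.powIso (tensorIso (Iso.refl L) (comm _ _) ≪≫ (assoc _ _ _).symm ≪≫
      tensorIso (tensorDualIso hL) (Iso.refl _) ≪≫ leftUnit _) e ≪≫ Ample.Pow.powMul A n₀ e

/-- `h⁰(F ⊗ Lᵐ) = O(mʳ)` when `F` has support of dimension at most `r`. -/
theorem exists_h0_bound {A L F : X.Modules} {d r : ℕ} (hd : topologicalKrullDim X ≤ d)
    (hA : CohB1.IsAmple A) (hL : PicF.IsInvertible L) (hF : Coh.IsCoh F)
    (hr : topologicalKrullDim (CohB1.support F) ≤ r) :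
    ∃ K : ℕ, ∀ m : ℕ, h0 k X (CohB1.tensorMod F (CohB1.tensorPow L m)) ≤ K * (m + 1) ^ r := by
  classical
  have hAi := hA.1
  let Z : ℕ → Set X := fun j => {x | Curv2.IsAssPoint (CohB1.tensorMod F (CohB1.tensorPow L j)) x}
  have hFj : ∀ j, Coh.IsCoh (CohB1.tensorMod F (CohB1.tensorPow L j)) := fun j =>
    isCoh_twist_right hF (isInvertible_tensorPow hL j)
  -- associated points do not see the twist
  have hZ : ∀ j, Z j ⊆ Z 0 := by
    intro j x hx
    obtain ⟨φ⟩ := Twist.exists_stalkEquiv_twist (isInvertible_tensorPow hL j) F x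
    obtain ⟨φ₀⟩ := Twist.exists_stalkEquiv_twist (isInvertible_tensorPow hL 0) F x
    have e : ∀ i, (CohB1.tensorMod F (CohB1.tensorPow L i)).presheaf.stalk x ≃ₗ[X.presheaf.stalk x]
        (CohB1.tensorMod (CohB1.tensorPow L i) F).presheaf.stalk x := fun i =>
      LinearEquiv.ofBijective (Modules.StalkModule.stalkMapₗ (comm F (CohB1.tensorPow L i)).hom x)
        ((Modules.StalkModule.isIso_iff_stalkMapₗ_bijective _).mp inferInstance x)
    exact LinearEquiv.isAssociatedPrime_iff (e j ≪≫ₗ φ ≪≫ₗ φ₀.symm ≪≫ₗ (e 0).symm) |>.mp hx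
  obtain ⟨N, e, C, s, hN, he, hC, hsZ, ⟨eC⟩⟩ := exists_avoiding hA hL
    (UnifReg.Hyperplane.finite_assPoints (hFj 0))
  have hB : CohB1.IsAmple (CohB1.tensorPow A N) :=
    (Ample.Pow.isAmple_tensorPow_iff hAi hN).mp hA
  -- the step
  have step : ∀ j q, h0 k X (CohB1.tensorMod (CohB1.tensorMod F (CohB1.tensorPow L j))
      (CohB1.tensorPow (CohB1.tensorPow L e) q)) ≤
      h0 k X (CohB1.tensorMod (CohB1.tensorMod F (CohB1.tensorPow L j))
        (CohB1.tensorPow (CohB1.tensorPow A N) q)) := by
    intro j q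
    have hcoh := isCoh_twist_right (hFj j) (isInvertible_tensorPow (isInvertible_tensorPow hL e) q)
    refine (h0_le_twist (k := k) hcoh (isInvertible_tensorPow hC q) (SecTwist.powHom s q)
      fun x hx => ?_).trans (h0_congr (assoc _ _ _ ≪≫ tensorIso (Iso.refl _)
        ((Ample.Pow.powTensor _ C q).symm ≪≫ Ample.Pow.powIso eC q))).le
    rcases Nat.eq_zero_or_pos q with rfl | hq
    · show x ∈ CohB1.genLocus _ (𝟙 (Coh.structureModule X))
      rw [Ample.GenLocus.genLocus_id]
      trivial
    rw [Ample.GenLocus.genLocus_powHom hC s q hq]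
    refine hsZ (hZ (j + e * q) ?_)
    exact LinearEquiv.isAssociatedPrime_iff (LinearEquiv.ofBijective
      (Modules.StalkModule.stalkMapₗ (powSplit F L e q j).inv x)
      ((Modules.StalkModule.isIso_iff_stalkMapₗ_bijective _).mp inferInstance x)) |>.mp hx
  choose K hK using fun j => exists_chi_bound (k := k) (r := r) (F := CohB1.tensorMod F (CohB1.tensorPow L j))
    hd (hFj j) (isInvertible_tensorPow hAi N) (by
      rw [show CohB1.support (CohB1.tensorMod F (CohB1.tensorPow L j)) = CohB1.support F by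
        rw [Modules.Support.support_congr (comm F (CohB1.tensorPow L j)),
          Twist.support_twist (isInvertible_tensorPow hL j)]]
      exact hr)
  choose q₀ hq₀ using fun j => exists_chi_eq_h0 (k := k) d (hFj j) hB
  let small := ∑ m ∈ Finset.range (e * ((Finset.range e).sup q₀ + 1)),
    h0 k X (CohB1.tensorMod F (CohB1.tensorPow L m))
  refine ⟨small + ∑ j ∈ Finset.range e, K j, fun m => ?_⟩
  rw [add_mul]
  by_cases hm : m < e * ((Finset.range e).sup q₀ + 1)
  · refine le_trans ?_ (Nat.le_add_right _ _)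
    exact (Finset.single_le_sum (f := fun m => h0 k X (CohB1.tensorMod F (CohB1.tensorPow L m)))
      (fun _ _ => Nat.zero_le _) (Finset.mem_range.2 hm)).trans
        (Nat.le_mul_of_pos_right _ (pow_pos m.succ_pos r))
  · refine le_trans ?_ (Nat.le_add_left _ _)
    obtain ⟨j, q, hj, rfl⟩ : ∃ j q, j < e ∧ m = j + e * q :=
      ⟨m % e, m / e, Nat.mod_lt m he, (Nat.mod_add_div m e).symm⟩
    rw [h0_congr (powSplit F L e q j)]
    have hq : q₀ j ≤ q := by
      by_contra hlt
      have h1 := Finset.le_sup (f := q₀) (Finset.mem_range.2 hj)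
      have h2 : e * (q + 1) ≤ e * ((Finset.range e).sup q₀ + 1) :=
        Nat.mul_le_mul_left e (by omega)
      rw [Nat.mul_succ] at h2
      omega
    have h1 := (hq₀ j q hq).symm.trans_le (hK j q)
    refine (step j q).trans (le_trans (Nat.cast_le.1 h1) ?_)
    refine Nat.mul_le_mul (Finset.single_le_sum (fun _ _ => Nat.zero_le _) (Finset.mem_range.2 hj))
      (Nat.pow_le_pow_left ?_ r)
    have : q ≤ e * q := Nat.le_mul_of_pos_left q he
    omega

/-- The symbol on repeated inverses. -/
theorem sym_replicate_dual {A A' : X.Modules} {d : ℕ} (hd : topologicalKrullDim X ≤ d)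
    (hA : PicF.IsInvertible A) (hA' : PicF.IsInvertible A')
    (e : CohB1.tensorMod A A' ≅ Coh.structureModule X) {F : X.Modules} (hF : Coh.IsCoh F) :
    ∀ i j : ℕ, i + j = d → sym k X d (List.replicate i A' ++ List.replicate j A) F =
      (-1 : ℤ) ^ i * sym k X d (List.replicate d A) F
  | 0, j, h => by
    obtain rfl : j = d := by omega
    simp
  | i + 1, j, h => by
    have hl : ∀ M ∈ List.replicate i A' ++ List.replicate j A, PicF.IsInvertible M := by
      intro M hM
      rcases List.mem_append.1 hM with h | h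
      · exact (List.mem_replicate.1 h).2 ▸ hA'
      · exact (List.mem_replicate.1 h).2 ▸ hA
    have hperm : (A :: (List.replicate i A' ++ List.replicate j A)).Perm
        (List.replicate i A' ++ List.replicate (j + 1) A) := by
      rw [List.replicate_succ]
      exact List.perm_middle.symm
    rw [List.replicate_succ, List.cons_append, IntNum.sym_inverse (Finite.cohFinite k X) hd hA hA' e
      _ hl hF (by
        rw [List.length_append, List.length_replicate, List.length_replicate,
          show i + j + 2 = d + 1 by omega]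
        exact IntNum.dim_support_lt hd),
      IntNum.sym_perm hperm, sym_replicate_dual hd hA hA' e hF i (j + 1) (by omega)]
    ring

/-- `h⁰(Aᵐ)` grows like `m^d` for an ample `A`, `d = dim X`. -/
theorem exists_growth [IsIntegral X] {A : X.Modules} {d : ℕ} (hd : topologicalKrullDim X = d)
    (hA : CohB1.IsAmple A) :
    ∃ a m₀ : ℕ, 0 < a ∧ ∀ m, m₀ ≤ m → m ^ d ≤ a * h0 k X (CohB1.tensorPow A m) := by
  have hfin := Finite.cohFinite k X
  have hO := Twist.isCoh_structureModule X
  let O := Coh.structureModule X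
  set c : ℕ → ℤ := fun i => (-1 : ℤ) ^ i * sym k X d (List.replicate i A) O with hc
  have hcd : 0 < c d := by
    have e := tensorDualIso hA.1
    have hA' := isInvertible_dual hA.1
    have hl : ∀ M ∈ List.replicate d (TensorMod.Dual.dual A), PicF.IsInvertible M :=
      fun M hM => (List.mem_replicate.1 hM).2 ▸ hA'
    have hlen : (List.replicate d (TensorMod.Dual.dual A)).length = d := List.length_replicate
    have hsupp : topologicalKrullDim (CohB1.support O) = d := by
      have : CohB1.support O = Set.univ := Set.eq_univ_of_forall fun x =>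
        not_subsingleton_iff_nontrivial.mpr
          (AssPt.Basic.unitStalkEquiv x).symm.toEquiv.nontrivial
      rw [this, (Homeomorph.Set.univ _).isHomeomorph.topologicalKrullDim_eq, hd]
    have hpos := IntTheory.Additive.pos (X ↘ Spec (CommRingCat.of k))
      (IntTheory.Additive.isAdd_sym hfin hd.le hl) (IntTheory.Additive.vanishBelow_sym hfin hd.le hl hlen)
      hO hsupp fun y hy => IntTheory.Positive.sym_closure_pos hd.le _ hl
        (fun M hM => ⟨A, hA, ⟨(List.mem_replicate.1 hM).2 ▸ e⟩⟩) y (hy.2.trans (by rw [hlen]))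
    have h := sym_replicate_dual (k := k) hd.le hA.1 hA' e hO d 0 (by omega)
    rw [List.replicate_zero, List.append_nil] at h
    rw [h] at hpos
    exact hpos
  obtain ⟨q₀, hq₀⟩ := exists_chi_eq_h0 (k := k) d hO hA
  let K := ∑ i ∈ Finset.range d, (c i).natAbs
  let D := 2 ^ d * d.factorial
  refine ⟨2 * D, q₀ + 2 * d + 2 * D * K + 1, by positivity, fun m hm => ?_⟩
  have hchi : (h0 k X (CohB1.tensorPow A m) : ℤ) = ∑ i ∈ Finset.range (d + 1), c i * m.choose i := by
    rw [← h0_congr (leftUnit (CohB1.tensorPow A m)), ← hq₀ m (by omega)]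
    show sym k X d [] _ = _
    rw [Poly.sym_pow_expansion, Finset.sum_subset (Finset.range_subset_range.2
      (show d + 1 ≤ m + 1 by omega))]
    · exact Finset.sum_congr rfl fun i _ => by simp only [hc, List.append_nil]; ring
    · intro i _ hi
      rw [Finset.mem_range, not_lt] at hi
      simp only [hc]
      rw [Vanish.sym_eq_zero hfin hd.le _ (fun M hM => (List.mem_replicate.1 hM).2 ▸ hA.1) O hO
        ((IntNum.dim_support_lt hd.le).trans_le (by rw [List.length_replicate]; exact_mod_cast hi)),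
        mul_zero, zero_mul]
  rw [Finset.sum_range_succ] at hchi
  have hlow : (m : ℤ) ^ d ≤ D * (m.choose d : ℤ) := by
    have h1 : m ^ d ≤ 2 ^ d * (m + 1 - d) ^ d := by
      rw [← mul_pow]; exact Nat.pow_le_pow_left (by omega) d
    have h2 := (Nat.pow_sub_le_descFactorial m d).trans_eq (Nat.descFactorial_eq_factorial_mul_choose m d)
    exact_mod_cast h1.trans ((Nat.mul_le_mul_left _ h2).trans_eq (mul_assoc _ _ _).symm)
  have hrest : (2 * D : ℤ) * |∑ i ∈ Finset.range d, c i * (m.choose i : ℤ)| ≤ (m : ℤ) ^ d := by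
    refine (mul_le_mul_of_nonneg_left (Finset.abs_sum_le_sum_abs _ _) (by positivity)).trans ?_
    rcases Nat.eq_zero_or_pos d with hd0 | hd0
    · simp [hd0]
    have hi : ∀ i ∈ Finset.range d,
        |c i * (m.choose i : ℤ)| ≤ ((c i).natAbs : ℤ) * (m : ℤ) ^ (d - 1) := fun i hi => by
      rw [abs_mul, Nat.abs_cast, Int.abs_eq_natAbs]
      refine mul_le_mul_of_nonneg_left ?_ (Int.natCast_nonneg _)
      exact_mod_cast (Nat.choose_le_pow m i).trans
        (Nat.pow_le_pow_right (show 0 < m by omega)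
          (show i ≤ d - 1 by rw [Finset.mem_range] at hi; omega))
    refine (mul_le_mul_of_nonneg_left (Finset.sum_le_sum hi) (by positivity)).trans ?_
    rw [← Finset.sum_mul, ← mul_assoc, show (m : ℤ) ^ d = (m : ℤ) * (m : ℤ) ^ (d - 1) by
      rw [← pow_succ']; congr 1; omega]
    refine mul_le_mul_of_nonneg_right ?_ (by positivity)
    exact_mod_cast (show 2 * D * K ≤ m by omega)
  have hD : (0 : ℤ) < D := by positivity
  have key : (m : ℤ) ^ d ≤ 2 * D * (h0 k X (CohB1.tensorPow A m) : ℤ) := by
    rw [hchi]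
    have h1 : (m.choose d : ℤ) ≤ c d * (m.choose d : ℤ) :=
      le_mul_of_one_le_left (Int.natCast_nonneg _) hcd
    have h3 := mul_le_mul_of_nonneg_left (neg_abs_le (∑ i ∈ Finset.range d, c i * (m.choose i : ℤ)))
      (show (0 : ℤ) ≤ 2 * D by positivity)
    nlinarith
  exact_mod_cast key

end Groth.Agent.Lib.PosLin.SectionBound
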