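import Groth.Agent.Lib.PosLin.SectionBound

/-!
# Big invertible modules: Kodaira's lemma and consequences
-/

set_option autoImplicit false
set_option linter.style.haveILetI false
set_option linter.unusedSectionVars false
universe u

open CategoryTheory CategoryTheory.Limits AlgebraicGeometry

namespace Groth.Agent.Lib.PosLin.Kodaira

open Groth.Agent.Lib Groth.Agent.Lib.Snapper Groth.Agent.Lib.PosLin.SectionBound
open Groth.Agent.Lib.TensorMod.Basic (tmap comm assoc tensorIso leftUnit rightUnit)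
open Groth.Agent.Lib.TensorMod.Invertible (isInvertible_tensorPow isInvertible_tensorMod
  isInvertible_dual tensorDualIso)
open Groth.Agent.Lib.Curves.LES (isoK)

variable {k : Type u} [Field k] {X : Scheme.{u}} [X.Over (Spec (CommRingCat.of k))]
  [IsProper (X ↘ Spec (CommRingCat.of k))] [AlgebraicGeometry.IsNoetherian X] [IsIntegral X]

variable (k) in
/-- `h⁰(Lᵐ)` is not `O(m^{d-1})`; for `d = 0`, it is frequently nonzero. -/
def Unbdd (L : X.Modules) (d : ℕ) : Prop :=
  ∀ C m₀ : ℕ, ∃ m, m₀ ≤ m ∧ C * m ^ d < m * h0 k X (CohB1.tensorPow L m)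

/-- The structure sheaf has a section. -/
theorem h0_structure_pos : 0 < h0 k X (Coh.structureModule X) := by
  haveI : FiniteDimensional k (Coh.HH X (Coh.structureModule X) 0) :=
    Finite.cohFinite k X _ (Twist.isCoh_structureModule X) 0
  refine Module.finrank_pos_iff.2 ?_
  haveI : Nonempty ((⊤ : X.Opens) : Type u) :=
    ⟨⟨(IrreducibleSpace.toNonempty (X := X)).some, trivial⟩⟩
  exact (Curves.GlobalSections.h0Equiv (Coh.structureModule X)).toEquiv.nontrivial_congr.2
    (inferInstanceAs (Nontrivial Γ(X, ⊤)))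

/-- A nonzero section gives cohomology in degree zero. -/
theorem h0_pos_of_section {M : X.Modules} (hM : PicF.IsInvertible M)
    (s : Coh.structureModule X ⟶ M) (hs : s ≠ 0) : 0 < h0 k X M := by
  refine (h0_structure_pos (k := k) (X := X)).trans_le ?_
  exact (h0_le_twist_invertible (k := k) (PicLoc.isInvertible_structureModule X) hM s hs).trans
    (h0_congr (leftUnit M)).le

/-- Cohomology in degree zero gives a nonzero section. -/
theorem exists_section {M : X.Modules} (h : 0 < h0 k X M) :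
    ∃ s : Coh.structureModule X ⟶ M, s ≠ 0 :=
  SurfInt.Bound.exists_hom_of_finrank_ne_zero (k := k) M h.ne'

/-- Multiplication by a section: `h⁰(G) ≤ h⁰(G ⊗ E)` once `h⁰(E) > 0`. -/
theorem h0_le_mul {G E : X.Modules} (hG : PicF.IsInvertible G) (hE : PicF.IsInvertible E)
    (h : 0 < h0 k X E) : h0 k X G ≤ h0 k X (CohB1.tensorMod G E) :=
  let ⟨s, hs⟩ := exists_section (k := k) h
  h0_le_twist_invertible (k := k) hG hE s hs

theorem h0_le_mul_pow {G E : X.Modules} (hG : PicF.IsInvertible G) (hE : PicF.IsInvertible E)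
    (h : 0 < h0 k X E) : ∀ q : ℕ, h0 k X G ≤ h0 k X (CohB1.tensorMod G (CohB1.tensorPow E q))
  | 0 => (h0_congr (k := k) (rightUnit G)).ge
  | q + 1 => (h0_le_mul_pow hG hE h q).trans
      ((h0_le_mul (k := k) (isInvertible_tensorMod hG (isInvertible_tensorPow hE q)) hE h).trans
        (h0_congr (assoc _ _ _)).le)

theorem h0_pow_le {L : X.Modules} (hL : PicF.IsInvertible L) (i : ℕ) {j : ℕ}
    (h : 0 < h0 k X (CohB1.tensorPow L j)) :
    h0 k X (CohB1.tensorPow L i) ≤ h0 k X (CohB1.tensorPow L (i + j)) :=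
  (h0_le_mul (k := k) (isInvertible_tensorPow hL i) (isInvertible_tensorPow hL j) h).trans
    (h0_congr (Ample.Pow.powAdd L i j)).ge

include k in
/-- A proper closed subset has smaller dimension. -/
theorem dim_le_of_notMem {Z : Set X} (hZ : IsClosed Z) (hη : genericPoint X ∉ Z) {d : ℕ}
    (hd : topologicalKrullDim X = (d + 1 : ℕ)) : topologicalKrullDim Z ≤ d := by
  refine (VarDim.Basic.topologicalKrullDim_le_iff (X ↘ Spec (CommRingCat.of k))
    hZ.isLocallyClosed _).2 fun x hx => ?_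
  have hne : genericPoint X ≠ x := fun h => hη (h ▸ hx)
  have h1 := VarDim.Basic.pdim_lt (X ↘ Spec (CommRingCat.of k))
    ((genericPoint_spec X).specializes (Set.mem_univ x)) hne
  have hg := VarDim.Basic.topologicalKrullDim_irreducibleSpace (X ↘ Spec (CommRingCat.of k))
  rw [hd] at hg
  have hg' : VarDim.Basic.pdim (X ↘ Spec (CommRingCat.of k)) (genericPoint X) = d + 1 := by
    exact_mod_cast hg.symm
  exact_mod_cast (show VarDim.Basic.pdim (X ↘ Spec (CommRingCat.of k)) x ≤ d by omega)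

include k in
theorem eq_genericPoint_of_dim_zero (hd : topologicalKrullDim X = (0 : ℕ)) (x : X) :
    x = genericPoint X := by
  by_contra hne
  have h1 := VarDim.Basic.pdim_lt (X ↘ Spec (CommRingCat.of k))
    ((genericPoint_spec X).specializes (Set.mem_univ x)) (Ne.symm hne)
  have hg := VarDim.Basic.topologicalKrullDim_irreducibleSpace (X ↘ Spec (CommRingCat.of k))
  rw [hd] at hg
  have hg' : VarDim.Basic.pdim (X ↘ Spec (CommRingCat.of k)) (genericPoint X) = 0 := by
    exact_mod_cast hg.symm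
  omega

/-- **Kodaira's lemma.** -/
theorem exists_sections {A L : X.Modules} {d : ℕ} (hd : topologicalKrullDim X = d)
    (hA : CohB1.IsAmple A) (hL : PicF.IsInvertible L) (hbig : Unbdd k L d)
    {E : X.Modules} (hE : PicF.IsInvertible E) :
    ∃ m, 0 < m ∧
      0 < h0 k X (CohB1.tensorMod (TensorMod.Dual.dual E) (CohB1.tensorPow L m)) := by
  obtain ⟨n₁, hn₁⟩ := Ample.GG.eventually_genAt_twist hA E (Ample.GG.isCoh_of_isInvertible hE)
  obtain ⟨n₂, hn₂⟩ := Ample.GG.eventually_genAt_twist hA (Coh.structureModule X)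
    (Twist.isCoh_structureModule X)
  set n := n₁ + n₂
  have hAn := isInvertible_tensorPow hA.1 n
  set B := CohB1.tensorMod E (CohB1.tensorPow A n) with hBdef
  have hB : PicF.IsInvertible B := isInvertible_tensorMod hE hAn
  obtain ⟨u, hu⟩ := Ample.GG.exists_genLocus_of_genAt hB (hn₁ n (by omega) (genericPoint X))
  have hO := PicLoc.isInvertible_structureModule X
  obtain ⟨t, ht⟩ := Ample.GG.exists_genLocus_of_genAt (isInvertible_tensorMod hO hAn)
    (hn₂ n (by omega) (genericPoint X))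
  have htpos : 0 < h0 k X (CohB1.tensorPow A n) :=
    (h0_pos_of_section (k := k) (isInvertible_tensorMod hO hAn) t
      (SurfInt.Pencil.ne_zero_of_mem_genLocus (isInvertible_tensorMod hO hAn) ht)).trans_eq
        (h0_congr (leftUnit _))
  have hu0 := SurfInt.Pencil.ne_zero_of_mem_genLocus hB hu
  haveI : Mono u := Curves.Positivity.mono_of_ne_zero hO hB hu0
  let φ : Coh.structureModule X ⟶ CohB1.tensorMod (Coh.structureModule X) B :=
    (UnifReg.Hyperplane.mulS u).app _
  haveI : Mono φ := by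
    haveI : Mono (tmap (𝟙 (Coh.structureModule X)) u) :=
      (Twist.twistSeq_shortExact hO (Devissage.Basic.exists_ses_mono u)).mono_f
    exact inferInstanceAs (Mono ((rightUnit _).inv ≫ tmap (𝟙 (Coh.structureModule X)) u))
  set Q := cokernel φ
  have hQ : Coh.IsCoh Q := CohBasics.Closure.isCoh_cokernel φ (Twist.isCoh_structureModule X).1
    (Twist.isCoh_twist hO (Ample.GG.isCoh_of_isInvertible hB))
  have hsupp : CohB1.support Q ⊆ (CohB1.genLocus B u : Set X)ᶜ := fun x hx =>
    (UnifReg.Hyperplane.support_coker u (Coh.structureModule X) hx).1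
  have hB' := isInvertible_dual hB
  have hQ' : Coh.IsCoh (CohB1.tensorMod (TensorMod.Dual.dual B) Q) := Twist.isCoh_twist hB' hQ
  -- the number of sections on the divisor
  obtain ⟨C, hC⟩ : ∃ C : ℕ, ∀ m, 0 < m →
      m * h0 k X (CohB1.tensorMod (CohB1.tensorMod (TensorMod.Dual.dual B) Q)
        (CohB1.tensorPow L m)) ≤ C * m ^ d := by
    cases d with
    | zero =>
      have hz : IsZero Q := by
        rw [← Modules.Support.support_eq_empty_iff]
        refine Set.eq_empty_iff_forall_notMem.2 fun x hx => hsupp hx ?_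
        rw [eq_genericPoint_of_dim_zero (k := k) hd x]
        exact hu
      refine ⟨0, fun m _ => ?_⟩
      have hz' : IsZero (CohB1.tensorMod (CohB1.tensorMod (TensorMod.Dual.dual B) Q)
          (CohB1.tensorPow L m)) := by
        rw [← Modules.Support.support_eq_empty_iff, Modules.Support.support_congr (comm _ _),
          Twist.support_twist (isInvertible_tensorPow hL m), Twist.support_twist hB',
          Modules.Support.support_eq_empty_iff]
        exact hz
      have h : h0 k X (CohB1.tensorMod (CohB1.tensorMod (TensorMod.Dual.dual B) Q)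
          (CohB1.tensorPow L m)) = 0 := by
        have h1 : FGA.eulerCharLE k X (CohB1.tensorMod (CohB1.tensorMod (TensorMod.Dual.dual B) Q)
            (CohB1.tensorPow L m)) 0 = 0 := Chi.eulerCharLE_isZero hz' 0
        simpa [FGA.eulerCharLE] using h1
      simp [h]
    | succ d =>
      obtain ⟨K, hK⟩ := exists_h0_bound (k := k) (r := d) hd.le hA hL hQ' (by
        rw [Twist.support_twist hB']
        exact (Devissage.Dim.dim_mono hsupp).trans
          (dim_le_of_notMem (k := k) (CohB1.genLocus B u).2.isClosed_compl (fun h => h hu) hd))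
      refine ⟨K * 2 ^ d, fun m hm => ?_⟩
      calc m * h0 k X _ ≤ m * (K * (2 * m) ^ d) :=
            Nat.mul_le_mul_left m ((hK m).trans
              (Nat.mul_le_mul_left K (Nat.pow_le_pow_left (by omega) d)))
        _ = K * 2 ^ d * m ^ (d + 1) := by ring
  obtain ⟨m, hm₀, hm⟩ := hbig C 1
  refine ⟨m, hm₀, ?_⟩
  have hlt : h0 k X (CohB1.tensorMod (CohB1.tensorMod (TensorMod.Dual.dual B) Q)
      (CohB1.tensorPow L m)) < h0 k X (CohB1.tensorPow L m) :=
    Nat.lt_of_mul_lt_mul_left (lt_of_le_of_lt (hC m hm₀) hm)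
  set G := CohB1.tensorMod (CohB1.tensorPow L m) (TensorMod.Dual.dual B) with hGdef
  have hG : PicF.IsInvertible G := isInvertible_tensorMod (isInvertible_tensorPow hL m) hB'
  have hS := Twist.twistSeq_shortExact hG (Devissage.Basic.exists_ses_mono φ)
  let S : ShortComplex X.Modules :=
    Twist.twistSeq G (ShortComplex.mk φ (cokernel.π φ) (cokernel.condition φ))
  have hS' : S.ShortExact := hS
  have hfin : ∀ F, Coh.IsCoh F → FiniteDimensional k (Coh.HH X F 0) :=
    fun F hF => Finite.cohFinite k X F hF 0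
  haveI : FiniteDimensional k (Coh.HH X S.X₂ 0) :=
    hfin _ (Twist.isCoh_twist hG (Twist.isCoh_twist hO (Ample.GG.isCoh_of_isInvertible hB)))
  haveI : FiniteDimensional k (Coh.HH X S.X₁ 0) :=
    hfin _ (Twist.isCoh_twist hG (Twist.isCoh_structureModule X))
  haveI : FiniteDimensional k (Coh.HH X S.X₃ 0) := hfin _ (Twist.isCoh_twist hG hQ)
  have h := SurfInt.Bound.finrank_h0_le (k := k) hS'
  let e₂ : S.X₂ ≅ CohB1.tensorPow L m :=
    tensorIso (Iso.refl G) (leftUnit B) ≪≫ assoc _ _ _ ≪≫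
      tensorIso (Iso.refl _) (comm _ B ≪≫ tensorDualIso hB) ≪≫ rightUnit _
  let e₁ : S.X₁ ≅ G := rightUnit G
  let e₃ : S.X₃ ≅ CohB1.tensorMod (CohB1.tensorMod (TensorMod.Dual.dual B) Q)
      (CohB1.tensorPow L m) := assoc _ _ _ ≪≫ comm _ _
  have h1 : 0 < h0 k X G := by
    have e₁' : h0 k X S.X₁ = h0 k X G := h0_congr e₁
    have e₂' : h0 k X S.X₂ = h0 k X (CohB1.tensorPow L m) := h0_congr e₂
    have e₃' : h0 k X S.X₃ = _ := h0_congr e₃
    simp only [h0] at h e₁' e₂' e₃' hlt ⊢
    omega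
  refine h1.trans_le ((h0_le_mul (k := k) hG hAn htpos).trans (h0_congr ?_).le)
  exact tensorIso (comm _ _) (Iso.refl _) ≪≫
    tensorIso (tensorIso ((leftUnit _).symm ≪≫
      tensorIso ((tensorDualIso hE).symm ≪≫ comm _ _) (Iso.refl _)) (Iso.refl _)) (Iso.refl _) ≪≫
    tensorIso (assoc _ _ _) (Iso.refl _) ≪≫
    tensorIso (assoc _ _ _) (Iso.refl _) ≪≫ assoc _ _ _ ≪≫
    tensorIso (Iso.refl (TensorMod.Dual.dual E))
      (tensorIso ((assoc E (TensorMod.Dual.dual B) _).symm ≪≫ comm _ _) (Iso.refl _) ≪≫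
        assoc _ _ _ ≪≫ tensorIso (Iso.refl _)
          (assoc _ _ _ ≪≫ tensorIso (Iso.refl E) (comm _ _) ≪≫ (assoc _ _ _).symm ≪≫
            tensorDualIso hB) ≪≫ rightUnit _)

/-- A monomorphism from a twist with sections. -/
theorem exists_mono {E M : X.Modules} (hE : PicF.IsInvertible E) (hM : PicF.IsInvertible M)
    (h : 0 < h0 k X (CohB1.tensorMod (TensorMod.Dual.dual E) M)) : ∃ φ : E ⟶ M, Mono φ := by
  obtain ⟨s, hs⟩ := exists_section (k := k) h
  haveI : Mono s := Curves.Positivity.mono_of_ne_zero (PicLoc.isInvertible_structureModule X)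
    (isInvertible_tensorMod (isInvertible_dual hE) hM) hs
  haveI : Mono (tmap (𝟙 E) s) :=
    (Twist.twistSeq_shortExact hE (Devissage.Basic.exists_ses_mono s)).mono_f
  exact ⟨(rightUnit E).inv ≫ tmap (𝟙 E) s ≫ ((assoc _ _ _).symm ≪≫
    tensorIso (tensorDualIso hE) (Iso.refl M) ≪≫ leftUnit M).hom, inferInstance⟩

/-- A monomorphism gives a twist with sections. -/
theorem h0_pos_of_mono {E M : X.Modules} (hE : PicF.IsInvertible E) (hM : PicF.IsInvertible M)
    (φ : E ⟶ M) [Mono φ] : 0 < h0 k X (CohB1.tensorMod (TensorMod.Dual.dual E) M) := by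
  have hE' := isInvertible_dual hE
  haveI : Mono (tmap (𝟙 (TensorMod.Dual.dual E)) φ) :=
    (Twist.twistSeq_shortExact hE' (Devissage.Basic.exists_ses_mono φ)).mono_f
  refine (h0_structure_pos (k := k) (X := X)).trans_le ?_
  exact h0_le_of_mono (k := k) (Twist.isCoh_twist hE' (Ample.GG.isCoh_of_isInvertible hM))
    ((comm _ E ≪≫ tensorDualIso hE).inv ≫ tmap (𝟙 (TensorMod.Dual.dual E)) φ)

variable {d : ℕ} {L : X.Modules}

/-- Growth along multiples gives unboundedness. -/
theorem unbdd_of_growth {ν a μ₀ : ℕ} (hν : 0 < ν)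
    (h : ∀ μ, μ₀ ≤ μ → μ ^ d ≤ a * h0 k X (CohB1.tensorPow L (ν * μ))) : Unbdd k L d := by
  intro C m₀
  set μ := μ₀ + m₀ + C * ν ^ d * a + 1 with hμ
  refine ⟨ν * μ, le_trans (by omega) (Nat.le_mul_of_pos_left μ hν), ?_⟩
  refine Nat.lt_of_mul_lt_mul_left (a := a) ?_
  calc a * (C * (ν * μ) ^ d) = C * ν ^ d * a * μ ^ d := by ring
    _ < μ * μ ^ d := Nat.mul_lt_mul_of_pos_right (by omega) (pow_pos (by omega) d)
    _ ≤ (ν * μ) * μ ^ d := Nat.mul_le_mul_right _ (Nat.le_mul_of_pos_left μ hν)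
    _ ≤ (ν * μ) * (a * h0 k X (CohB1.tensorPow L (ν * μ))) :=
      Nat.mul_le_mul_left _ (h μ (by omega))
    _ = a * (ν * μ * h0 k X (CohB1.tensorPow L (ν * μ))) := by ring

/-- A power of `L` containing an ample module grows. -/
theorem growth_of_sections {A : X.Modules} (hd : topologicalKrullDim X = d) (hA : CohB1.IsAmple A)
    (hL : PicF.IsInvertible L) {ν : ℕ}
    (h : 0 < h0 k X (CohB1.tensorMod (TensorMod.Dual.dual A) (CohB1.tensorPow L ν))) :
    ∃ a μ₀ : ℕ, 0 < a ∧ ∀ μ, μ₀ ≤ μ → μ ^ d ≤ a * h0 k X (CohB1.tensorPow L (ν * μ)) := by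
  obtain ⟨a, m₀, ha, hg⟩ := exists_growth (k := k) hd hA
  refine ⟨a, m₀, ha, fun μ hμ => (hg μ hμ).trans (Nat.mul_le_mul_left a ?_)⟩
  refine (h0_le_mul_pow (k := k) (isInvertible_tensorPow hA.1 μ)
    (isInvertible_tensorMod (isInvertible_dual hA.1) (isInvertible_tensorPow hL ν)) h μ).trans
      (h0_congr ?_).le
  exact (Ample.Pow.powTensor A _ μ).symm ≪≫ Ample.Pow.powIso ((assoc _ _ _).symm ≪≫
    tensorIso (tensorDualIso hA.1) (Iso.refl _) ≪≫ leftUnit _) μ ≪≫ Ample.Pow.powMul L ν μ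

/-- A big module has sections in every large degree. -/
theorem exists_forall_pos {A : X.Modules} (hA : CohB1.IsAmple A) (hL : PicF.IsInvertible L)
    (hK : ∀ E : X.Modules, CohB1.IsAmple E →
      ∃ m, 0 < m ∧ 0 < h0 k X (CohB1.tensorMod (TensorMod.Dual.dual E) (CohB1.tensorPow L m))) :
    ∃ m₁ : ℕ, ∀ m, m₁ ≤ m → 0 < h0 k X (CohB1.tensorPow L m) := by
  obtain ⟨n₁, hn₁, hamp⟩ := Ample.GG.exists_isAmple_isGloballyGenerated hA hL
  obtain ⟨n₂, hn₂⟩ := Ample.GG.eventually_genAt_twist hA L (Ample.GG.isCoh_of_isInvertible hL)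
  obtain ⟨n₃, hn₃⟩ := Ample.GG.eventually_genAt_twist hA (Coh.structureModule X)
    (Twist.isCoh_structureModule X)
  set n := n₁ + n₂ + n₃ with hn
  have hAn := isInvertible_tensorPow hA.1 n
  have hO := PicLoc.isInvertible_structureModule X
  obtain ⟨u, hu⟩ := Ample.GG.exists_genLocus_of_genAt (isInvertible_tensorMod hL hAn)
    (hn₂ n (by omega) (genericPoint X))
  obtain ⟨t, ht⟩ := Ample.GG.exists_genLocus_of_genAt (isInvertible_tensorMod hO hAn)
    (hn₃ n (by omega) (genericPoint X))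
  have htpos : 0 < h0 k X (CohB1.tensorPow A n) :=
    (h0_pos_of_section (k := k) (isInvertible_tensorMod hO hAn) t
      (SurfInt.Pencil.ne_zero_of_mem_genLocus (isInvertible_tensorMod hO hAn) ht)).trans_eq
        (h0_congr (leftUnit _))
  have hupos : 0 < h0 k X (CohB1.tensorMod L (CohB1.tensorPow A n)) :=
    h0_pos_of_section (k := k) (isInvertible_tensorMod hL hAn) u
      (SurfInt.Pencil.ne_zero_of_mem_genLocus (isInvertible_tensorMod hL hAn) hu)
  obtain ⟨p, hp, hps⟩ := hK _ ((Ample.Pow.isAmple_tensorPow_iff hA.1 (by omega : 0 < n)).mp hA)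
  set D := CohB1.tensorMod (TensorMod.Dual.dual (CohB1.tensorPow A n)) (CohB1.tensorPow L p)
  have hD : PicF.IsInvertible D :=
    isInvertible_tensorMod (isInvertible_dual hAn) (isInvertible_tensorPow hL p)
  let eD : CohB1.tensorMod D (CohB1.tensorPow A n) ≅ CohB1.tensorPow L p :=
    comm _ _ ≪≫ (assoc _ _ _).symm ≪≫ tensorIso (tensorDualIso hAn) (Iso.refl _) ≪≫ leftUnit _
  have hp0 : 0 < h0 k X (CohB1.tensorPow L p) :=
    hps.trans_le ((h0_le_mul (k := k) hD hAn htpos).trans (h0_congr eD).le)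
  have hp1 : 0 < h0 k X (CohB1.tensorPow L (p + 1)) :=
    hps.trans_le ((h0_le_mul (k := k) hD (isInvertible_tensorMod hL hAn) hupos).trans
      (h0_congr (tensorIso (Iso.refl D) (comm L _) ≪≫ (assoc _ _ _).symm ≪≫
        tensorIso eD (Iso.refl L))).le)
  have hmul : ∀ i j, 0 < h0 k X (CohB1.tensorPow L i) → 0 < h0 k X (CohB1.tensorPow L j) →
      0 < h0 k X (CohB1.tensorPow L (i + j)) :=
    fun i j hi hj => hi.trans_le (h0_pow_le (k := k) hL i hj)
  have hzero : 0 < h0 k X (CohB1.tensorPow L 0) :=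
    (h0_structure_pos (k := k) (X := X))
  have hcomb : ∀ a b : ℕ, 0 < h0 k X (CohB1.tensorPow L (a * p + b * (p + 1))) := by
    intro a b
    induction a with
    | zero =>
      induction b with
      | zero => simpa using hzero
      | succ b ih =>
        have := hmul _ _ ih hp1
        rwa [show 0 * p + b * (p + 1) + (p + 1) = 0 * p + (b + 1) * (p + 1) by ring] at this
    | succ a ih =>
      have := hmul _ _ ih hp0
      rwa [show a * p + b * (p + 1) + p = (a + 1) * p + b * (p + 1) by ring] at this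
  refine ⟨p * p, fun m hm => ?_⟩
  have hr : m % p < p := Nat.mod_lt m hp
  have hq : m % p ≤ m / p := le_trans hr.le ((Nat.le_div_iff_mul_le hp).2 hm)
  convert hcomb (m / p - m % p) (m % p) using 3
  rw [mul_add, mul_one, ← add_assoc, ← add_mul, Nat.sub_add_cancel hq]
  exact (Nat.div_add_mod' m p).symm

/-- A module dominating every ample module grows in every degree. -/
theorem growth {A : X.Modules} (hd : topologicalKrullDim X = d) (hA : CohB1.IsAmple A)
    (hL : PicF.IsInvertible L)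
    (hK : ∀ E : X.Modules, CohB1.IsAmple E →
      ∃ m, 0 < m ∧ 0 < h0 k X (CohB1.tensorMod (TensorMod.Dual.dual E) (CohB1.tensorPow L m))) :
    ∃ a m₀ : ℕ, 0 < a ∧ ∀ m, m₀ ≤ m → m ^ d ≤ a * h0 k X (CohB1.tensorPow L m) := by
  obtain ⟨ν, hν, hs⟩ := hK A hA
  obtain ⟨a, μ₀, ha, hg⟩ := growth_of_sections (k := k) hd hA hL hs
  obtain ⟨r₀, hr₀⟩ := exists_forall_pos (k := k) hA hL hK
  refine ⟨(2 * ν) ^ d * a, (r₀ + ν) * 2 + ν * μ₀, by positivity, fun m hm => ?_⟩
  set q := (m - r₀) / ν with hq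
  set r := r₀ + (m - r₀) % ν with hr
  have h1 := Nat.div_add_mod (m - r₀) ν
  rw [← hq] at h1
  have h2 := Nat.mod_lt (m - r₀) hν
  have hmqr : m = ν * q + r := by omega
  have hqμ : μ₀ ≤ q := Nat.le_of_mul_le_mul_left (show ν * μ₀ ≤ ν * q by omega) hν
  have hm2 : m ≤ 2 * ν * q := by rw [mul_assoc]; omega
  calc m ^ d ≤ (2 * ν * q) ^ d := Nat.pow_le_pow_left hm2 d
    _ = (2 * ν) ^ d * q ^ d := by ring
    _ ≤ (2 * ν) ^ d * (a * h0 k X (CohB1.tensorPow L (ν * q))) :=
      Nat.mul_le_mul_left _ (hg q hqμ)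
    _ ≤ (2 * ν) ^ d * a * h0 k X (CohB1.tensorPow L m) := by
      rw [hmqr, mul_assoc]
      exact Nat.mul_le_mul_left _ (Nat.mul_le_mul_left _ (h0_pow_le (k := k) hL _ (hr₀ r (by omega))))

end Groth.Agent.Lib.PosLin.Kodaira
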