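import Groth.Agent.Lib.PosLin.AsympTwist
import Groth.Agent.Lib.GrothVanSupport

/-!
# Vanishing of top cohomology of the powers of a big module
-/

set_option autoImplicit false
set_option linter.style.haveILetI false
set_option linter.unusedSectionVars false
universe u

open CategoryTheory CategoryTheory.Limits AlgebraicGeometry Filter

namespace Groth.Agent.Lib.PosLin.TopVanish

open Groth.Agent.Lib Groth.Agent.Lib.Snapper Groth.Agent.Lib.PosLin.CohBound
  Groth.Agent.Lib.PosLin.Asymp
open Groth.Agent.Lib.PosLin.SectionBound (isCoh_twist_right h0 h0_congr)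
open Groth.Agent.Lib.TensorMod.Basic (tmap comm assoc tensorIso leftUnit rightUnit)
open Groth.Agent.Lib.TensorMod.Invertible (isInvertible_tensorPow isInvertible_tensorMod
  isInvertible_dual tensorDualIso)

/-- A nonzero section generates at the generic point. -/
theorem genericPoint_mem_genLocus {X : Scheme.{u}} [IsIntegral X] {L : X.Modules}
    (hL : PicF.IsInvertible L) {s : Coh.structureModule X ⟶ L} (hs : s ≠ 0) :
    genericPoint X ∈ CohB1.genLocus L s := by
  obtain ⟨U, e, hxU, he⟩ := TensorMod.Gen.isInvertible_iff.1 hL (genericPoint X)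
  obtain ⟨e', c', -, hfree, hc', -, hone⟩ :=
    SurfInt.Div.exists_stalk_zeroScheme hL s hs (genericPoint X)
  obtain ⟨c, hc⟩ := Submodule.mem_span_singleton.mp
    ((SurfInt.Div.span_germ_eq_top he hxU).1.ge (Submodule.mem_top :
      SurfInt.Div.germOne L s (genericPoint X) ∈ ⊤))
  refine (SurfInt.Pencil.mem_genLocus_iff_isUnit s he hxU hc.symm).2 ?_
  have hc0 : c ≠ 0 := by
    rintro rfl
    rw [zero_smul, hone] at hc
    exact hc' (hfree _ hc.symm)
  exact IsUnit.mk0 (G₀ := X.functionField) c hc0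

variable {k : Type u} [Field k] {X : Scheme.{u}} [X.Over (Spec (CommRingCat.of k))]
  [IsProper (X ↘ Spec (CommRingCat.of k))] [IsIntegral X]
  {n : ℕ} (hn : topologicalKrullDim X = n)

include hn

/-- Top cohomology only drops under an effective twist. -/
theorem hd_top_mul_le (hn1 : 1 ≤ n) {G E : X.Modules} (hG : PicF.IsInvertible G)
    (hE : PicF.IsInvertible E) (h : 0 < h0 k X E) :
    hd k X (CohB1.tensorMod G E) n ≤ hd k X G n := by
  haveI := Curves.GlobalSections.isNoetherian_of_proper k X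
  obtain ⟨s, hs⟩ := Kodaira.exists_section (k := k) h
  have hO := PicLoc.isInvertible_structureModule X
  haveI : Mono s := Curves.Positivity.mono_of_ne_zero hO hE hs
  let φ : G ⟶ CohB1.tensorMod G E := (UnifReg.Hyperplane.mulS s).app G
  haveI : Mono φ := by
    haveI : Mono (tmap (𝟙 G) s) :=
      (Twist.twistSeq_shortExact hG (Devissage.Basic.exists_ses_mono s)).mono_f
    exact inferInstanceAs (Mono ((rightUnit _).inv ≫ tmap (𝟙 G) s))
  have hGc := Ample.GG.isCoh_of_isInvertible hG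
  have hGE := isCoh_twist_right hGc hE
  have hQ : Coh.IsCoh (cokernel φ) := CohBasics.Closure.isCoh_cokernel φ hGc.1 hGE
  obtain ⟨d, rfl⟩ : ∃ d, n = d + 1 := ⟨n - 1, by omega⟩
  have hη : genericPoint X ∉ CohB1.support (cokernel φ) := fun hx =>
    (UnifReg.Hyperplane.support_coker s G hx).1 (genericPoint_mem_genLocus hE hs)
  haveI := hQ.2
  haveI : Subsingleton (Coh.HH X (cokernel φ) (d + 1)) :=
    GrothVanSupport.subsingleton_HH (d + 1) hn.le (cokernel φ)
      (Kodaira.dim_le_of_notMem (k := k) (Modules.Support.isClosed_support _) hη hn) _ d.lt_succ_self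
  have hS : (ShortComplex.mk φ (cokernel.π φ) (cokernel.condition φ)).ShortExact :=
    Devissage.Basic.exists_ses_mono φ
  have hz : hd k X (cokernel φ) (d + 1) = 0 :=
    Module.finrank_zero_of_subsingleton (R := k) (M := Coh.HH X (cokernel φ) (d + 1))
  refine (hd_mid_le (k := k) hS hGc hGE hQ (d + 1)).trans ?_
  exact (Nat.add_le_add_left hz.le _).trans (Nat.add_zero _).le

/-- **Vanishing.** -/
theorem eventually_hd_top_eq_zero (hn1 : 1 ≤ n) {A L : X.Modules} (hA : CohB1.IsAmple A)
    (hL : PicF.IsInvertible L) (hu : Kodaira.Unbdd k L n) :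
    ∃ m₀, ∀ m, m₀ ≤ m → hd k X (CohB1.tensorPow L m) n = 0 := by
  haveI := Curves.GlobalSections.isNoetherian_of_proper k X
  obtain ⟨ν, hν, hD⟩ := Kodaira.exists_sections (k := k) hn hA hL hu hA.1
  obtain ⟨r₀, hr₀⟩ := Kodaira.exists_forall_pos (k := k) hA hL fun E hE =>
    Kodaira.exists_sections (k := k) hn hA hL hu hE.1
  obtain ⟨q₀, hq₀⟩ := SurfInt.AmpleVanish.exists_subsingleton (k := k) hA
    (Twist.isCoh_structureModule X)
  set D := CohB1.tensorMod (TensorMod.Dual.dual A) (CohB1.tensorPow L ν) with hDdef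
  have hDi : PicF.IsInvertible D :=
    isInvertible_tensorMod (isInvertible_dual hA.1) (isInvertible_tensorPow hL ν)
  refine ⟨r₀ + ν * (q₀ + 1), fun m hm => ?_⟩
  set q := (m - r₀) / ν with hq
  set r := r₀ + (m - r₀) % ν with hr
  have h1 := Nat.div_add_mod (m - r₀) ν
  rw [← hq] at h1
  have h2 := Nat.mod_lt (m - r₀) hν
  have hmqr : m = ν * q + r := by
    have := Nat.le_trans (Nat.le_add_right r₀ _) hm
    omega
  have hqq : q₀ ≤ q := (Nat.le_div_iff_mul_le hν).2 (by
    rw [Nat.mul_comm]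
    have := Nat.mul_le_mul_left ν (Nat.le_succ q₀)
    change ν * q₀ ≤ ν * (q₀ + 1) at this
    omega)
  have hrpos : 0 < h0 k X (CohB1.tensorPow L r) := hr₀ r (by omega)
  have hE : 0 < h0 k X (CohB1.tensorMod (CohB1.tensorPow L r) (CohB1.tensorPow D q)) :=
    hrpos.trans_le (Kodaira.h0_le_mul_pow (k := k) (isInvertible_tensorPow hL r) hDi hD q)
  have e : CohB1.tensorPow L m ≅ CohB1.tensorMod (CohB1.tensorPow A q)
      (CohB1.tensorMod (CohB1.tensorPow L r) (CohB1.tensorPow D q)) := by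
    refine eqToIso (by rw [← hmqr]) ≪≫ Ample.Pow.powAdd L (ν * q) r ≪≫
      tensorIso ((Ample.Pow.powMul L ν q).symm ≪≫ Ample.Pow.powIso ((leftUnit _).symm ≪≫
        tensorIso (tensorDualIso hA.1).symm (Iso.refl _) ≪≫ assoc _ _ _) q ≪≫
        Ample.Pow.powTensor A D q) (Iso.refl _) ≪≫ assoc _ _ _ ≪≫
      tensorIso (Iso.refl _) (comm _ _)
  haveI : Subsingleton (Coh.HH X (CohB1.tensorMod (Coh.structureModule X)
      (CohB1.tensorPow A q)) n) := by
    obtain ⟨j, rfl⟩ : ∃ j, n = j + 1 := ⟨n - 1, by omega⟩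
    exact hq₀ q hqq j
  refine Nat.le_zero.1 ((hd_congr (k := k) e n).le.trans ((hd_top_mul_le (k := k) hn hn1
    (isInvertible_tensorPow hA.1 q)
    (isInvertible_tensorMod (isInvertible_tensorPow hL r) (isInvertible_tensorPow hDi q)) hE).trans
    ((hd_congr (k := k) (leftUnit _).symm n).le.trans ?_)))
  exact (Module.finrank_zero_of_subsingleton (R := k) (M := Coh.HH X (CohB1.tensorMod
    (Coh.structureModule X) (CohB1.tensorPow A q)) n)).le

omit hn in
/-- Positive volume gives unbounded growth. -/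
theorem unbdd_of_hhat_pos {L : X.Modules} (h : 0 < W4c5asymptcohfn.hhat k X n 0 L) :
    Kodaira.Unbdd k L n := by
  rw [Asymp.hhat_eq] at h
  set c := limsup (nrm n fun m => hd k X (CohB1.tensorPow L m) 0) atTop with hc
  intro C m₀
  have hfr := frequently_lt_of_lt_limsup (cobounded_nrm n _) (half_lt_self h)
  obtain ⟨M, hM⟩ := exists_nat_gt ((C : ℝ) * n.factorial / (c / 2))
  obtain ⟨m, hm, hlt⟩ := frequently_atTop.1 hfr (m₀ + M + 1)
  refine ⟨m, by omega, ?_⟩
  have hm0 : (0 : ℝ) < m := Nat.cast_pos.2 (by omega)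
  have hMm : (M : ℝ) ≤ m := Nat.cast_le.2 (by omega)
  rw [nrm, lt_div_iff₀ (pow_pos hm0 n)] at hlt
  rw [div_lt_iff₀ (half_pos h)] at hM
  have h3 : (C : ℝ) * n.factorial < (m : ℝ) * (c / 2) :=
    hM.trans_le (mul_le_mul_of_nonneg_right hMm (half_pos h).le)
  have hf : (0 : ℝ) < n.factorial := Nat.cast_pos.2 n.factorial_pos
  have h4 : ((C * m ^ n : ℕ) : ℝ) < ((m * h0 k X (CohB1.tensorPow L m) : ℕ) : ℝ) := by
    push_cast
    refine lt_of_mul_lt_mul_right ?_ hf.le
    calc (C : ℝ) * (m : ℝ) ^ n * n.factorial = C * n.factorial * (m : ℝ) ^ n := by ring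
      _ < (m : ℝ) * (c / 2) * (m : ℝ) ^ n := mul_lt_mul_of_pos_right h3 (pow_pos hm0 n)
      _ < (m : ℝ) * ((hd k X (CohB1.tensorPow L m) 0 : ℝ) * n.factorial) := by
        rw [mul_assoc]
        exact mul_lt_mul_of_pos_left hlt hm0
      _ = _ := by rw [← mul_assoc]
  exact_mod_cast h4

end Groth.Agent.Lib.PosLin.TopVanish
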