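import Groth.Agent.Lib.PosLin.CohBound
import Groth.Prelude.Def_W4c5asymptcohfnACF

/-!
# Asymptotic cohomology: lower order terms do not matter
-/

set_option autoImplicit false
set_option linter.style.haveILetI false
set_option linter.unusedSectionVars false
universe u

open CategoryTheory CategoryTheory.Limits AlgebraicGeometry Filter

namespace Groth.Agent.Lib.PosLin.Asymp

open Groth.Agent.Lib Groth.Agent.Lib.Snapper Groth.Agent.Lib.PosLin.CohBound
open Groth.Agent.Lib.TensorMod.Basic (comm assoc tensorIso leftUnit rightUnit)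
open Groth.Agent.Lib.TensorMod.Invertible (isInvertible_tensorPow isInvertible_tensorMod)

section Seq

/-- `u m · n! / m^n`. -/
noncomputable def nrm (n : ℕ) (u : ℕ → ℕ) (m : ℕ) : ℝ :=
  (u m : ℝ) * (n.factorial : ℝ) / (m : ℝ) ^ n

theorem nrm_nonneg (n : ℕ) (u : ℕ → ℕ) (m : ℕ) : 0 ≤ nrm n u m := by
  unfold nrm; positivity

theorem cobounded_nrm (n : ℕ) (u : ℕ → ℕ) : IsCoboundedUnder (· ≤ ·) atTop (nrm n u) :=
  isCoboundedUnder_le_of_le atTop (x := 0) (nrm_nonneg n u)

theorem bounded_nrm {n B : ℕ} {u : ℕ → ℕ} (h : ∀ m, u m ≤ B * (m + 1) ^ n) :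
    IsBoundedUnder (· ≤ ·) atTop (nrm n u) := by
  refine isBoundedUnder_of_eventually_le (a := (B : ℝ) * 2 ^ n * n.factorial) ?_
  filter_upwards [eventually_ge_atTop 1] with m hm
  unfold nrm
  rw [div_le_iff₀ (pow_pos (Nat.cast_pos.2 hm) n)]
  have h1 : u m ≤ B * (2 * m) ^ n :=
    (h m).trans (Nat.mul_le_mul_left _ (Nat.pow_le_pow_left (by omega) n))
  have h2 : u m * n.factorial ≤ B * 2 ^ n * n.factorial * m ^ n := by
    calc u m * n.factorial ≤ B * (2 * m) ^ n * n.factorial := Nat.mul_le_mul_right _ h1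
      _ = _ := by ring
  exact_mod_cast h2

theorem err_tendsto {n K : ℕ} (hK : n = 0 → K = 0) :
    Tendsto (nrm n fun m => K * (m + 1) ^ (n - 1)) atTop (nhds 0) := by
  rcases n with _ | n
  · unfold nrm; simp [hK rfl]
  · refine squeeze_zero' (Eventually.of_forall fun m => nrm_nonneg _ _ m) ?_
      (tendsto_const_div_atTop_nhds_zero_nat ((K : ℝ) * 2 ^ n * (n + 1).factorial))
    filter_upwards [eventually_ge_atTop 1] with m hm
    have hm' : (0 : ℝ) < m := Nat.cast_pos.2 hm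
    unfold nrm
    rw [div_le_div_iff₀ (pow_pos hm' _) hm']
    simp only [Nat.add_sub_cancel, Nat.cast_mul, Nat.cast_pow, Nat.cast_add, Nat.cast_one]
    have h2 : ((m : ℝ) + 1) ^ n ≤ (2 * m) ^ n := by
      refine pow_le_pow_left₀ (by positivity) ?_ n
      have : (1 : ℝ) ≤ m := by exact_mod_cast hm
      linarith
    calc (K : ℝ) * ((m : ℝ) + 1) ^ n * (n + 1).factorial * m
        ≤ (K : ℝ) * (2 * m) ^ n * (n + 1).factorial * m := by gcongr
      _ = _ := by ring

/-- An `O(m^{n-1})` error does not change the upper limit. -/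
theorem limsup_le_of_le {n K B : ℕ} {u v : ℕ → ℕ} (hK : n = 0 → K = 0)
    (hv : ∀ m, v m ≤ B * (m + 1) ^ n) (h : ∀ᶠ m in atTop, u m ≤ v m + K * (m + 1) ^ (n - 1)) :
    limsup (nrm n u) atTop ≤ limsup (nrm n v) atTop := by
  refine le_of_forall_pos_le_add fun ε hε => ?_
  have he := (err_tendsto hK).eventually_le_const hε
  have hle : ∀ᶠ m in atTop, nrm n u m ≤ nrm n v m + ε := by
    filter_upwards [h, he] with m h1 h2
    refine le_trans ?_ (add_le_add le_rfl h2)
    unfold nrm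
    rw [← add_div, ← add_mul]
    gcongr
    exact_mod_cast h1
  rw [← limsup_add_const atTop (nrm n v) ε (bounded_nrm hv) (cobounded_nrm n v)]
  refine limsup_le_limsup hle (cobounded_nrm n u) ?_
  obtain ⟨b, hb⟩ := bounded_nrm hv
  exact isBoundedUnder_of_eventually_le (a := b + ε) ((eventually_map.1 hb).mono fun m hm => add_le_add hm le_rfl)

theorem limsup_eq_of_le {n K B B' : ℕ} {u v : ℕ → ℕ} (hK : n = 0 → K = 0)
    (hu : ∀ m, u m ≤ B * (m + 1) ^ n) (hv : ∀ m, v m ≤ B' * (m + 1) ^ n)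
    (h : ∀ᶠ m in atTop, u m ≤ v m + K * (m + 1) ^ (n - 1))
    (h' : ∀ᶠ m in atTop, v m ≤ u m + K * (m + 1) ^ (n - 1)) :
    limsup (nrm n u) atTop = limsup (nrm n v) atTop :=
  le_antisymm (limsup_le_of_le hK hv h) (limsup_le_of_le hK hu h')

end Seq

section Bound

variable {k : Type u} [Field k] {X : Scheme.{u}} [X.Over (Spec (CommRingCat.of k))]
  [IsProper (X ↘ Spec (CommRingCat.of k))]

/-- `m ↦ dim H^i(F ⊗ L^m)`. -/
noncomputable abbrev hseq (k : Type u) [Field k] (X : Scheme.{u})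
    [X.Over (Spec (CommRingCat.of k))] (F L : X.Modules) (i m : ℕ) : ℕ :=
  hd k X (CohB1.tensorMod F (CohB1.tensorPow L m)) i

theorem hhatF_eq (n i : ℕ) (F L : X.Modules) :
    W4c5asymptcohfn.hhatF k X n i F L = limsup (nrm n (hseq k X F L i)) atTop := rfl

theorem hhat_eq (n i : ℕ) (L : X.Modules) :
    W4c5asymptcohfn.hhat k X n i L =
      limsup (nrm n fun m => hd k X (CohB1.tensorPow L m) i) atTop := rfl

/-- `dim H^i(F ⊗ L^m) = O(m^{r-1})` if all points of the support have dimension less than `r`. -/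
theorem exists_bound_id {A L F : X.Modules} (hA : CohB1.IsAmple A) (hL : PicF.IsInvertible L)
    (hF : Coh.IsCoh F) {r : ℕ}
    (hs : ∀ x ∈ CohB1.support F, VarDim.Basic.pdim (X ↘ Spec (CommRingCat.of k)) x < r) (i : ℕ) :
    ∃ K : ℕ, (r = 0 → K = 0) ∧ ∀ m, hseq k X F L i m ≤ K * (m + 1) ^ (r - 1) := by
  obtain ⟨K, h0, h⟩ := exists_bound (k := k) (𝟙 X) hA hL r F hF (fun y hy => hs y hy) i
  exact ⟨K, h0, fun m => (hd_congr (k := k) (comm _ _ ≪≫
    tensorIso ((Scheme.Modules.pullbackId X).app _).symm (Iso.refl F)) i).le.trans (h m)⟩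

variable {n : ℕ} (hn : topologicalKrullDim X = n)

include hn

theorem pdim_le_dim (x : X) : VarDim.Basic.pdim (X ↘ Spec (CommRingCat.of k)) x ≤ n := by
  have h := VarDim.Basic.pdim_le_topologicalKrullDim_scheme (X ↘ Spec (CommRingCat.of k)) x
  rw [hn] at h
  exact_mod_cast h

/-- `dim H^i(F ⊗ L^m) = O(m^n)`. -/
theorem exists_bound_dim {A L F : X.Modules} (hA : CohB1.IsAmple A) (hL : PicF.IsInvertible L)
    (hF : Coh.IsCoh F) (i : ℕ) : ∃ B : ℕ, ∀ m, hseq k X F L i m ≤ B * (m + 1) ^ n := by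
  obtain ⟨B, -, h⟩ := exists_bound_id (k := k) hA hL hF (r := n + 1)
    (fun x _ => Nat.lt_succ_of_le (pdim_le_dim (k := k) hn x)) i
  exact ⟨B, by simpa using h⟩

omit hn in
theorem small_of_dim_lt {F : X.Modules} (hF : Coh.IsCoh F) {m : ℕ}
    (h : topologicalKrullDim (CohB1.support F) < (m : WithBot ℕ∞)) :
    ∀ x ∈ CohB1.support F, VarDim.Basic.pdim (X ↘ Spec (CommRingCat.of k)) x < m := fun x hx => by
  haveI := hF.2
  exact_mod_cast (VarDim.Basic.pdim_le_topologicalKrullDim (X ↘ Spec (CommRingCat.of k))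
    (Modules.Support.isClosed_support F).isLocallyClosed hx).trans_lt h

variable {S : ShortComplex X.Modules} (hS : S.ShortExact) (h₁ : Coh.IsCoh S.X₁)
  (h₂ : Coh.IsCoh S.X₂) (h₃ : Coh.IsCoh S.X₃) {A L : X.Modules} (hA : CohB1.IsAmple A)
  (hL : PicF.IsInvertible L)

include hS h₁ h₂ h₃ hA hL

/-- A small submodule does not matter. -/
theorem hhatF_mid_eq_right
    (hs : ∀ x ∈ CohB1.support S.X₁, VarDim.Basic.pdim (X ↘ Spec (CommRingCat.of k)) x < n) (i : ℕ) :
    W4c5asymptcohfn.hhatF k X n i S.X₂ L = W4c5asymptcohfn.hhatF k X n i S.X₃ L := by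
  haveI := Curves.GlobalSections.isNoetherian_of_proper k X
  obtain ⟨K, hK0, hK⟩ := exists_bound_id (k := k) hA hL h₁ hs i
  obtain ⟨K', hK0', hK'⟩ := exists_bound_id (k := k) hA hL h₁ hs (i + 1)
  obtain ⟨B, hB⟩ := exists_bound_dim (k := k) hn hA hL h₂ i
  obtain ⟨B', hB'⟩ := exists_bound_dim (k := k) hn hA hL h₃ i
  have hM := fun m => isInvertible_tensorPow hL m
  have hc : ∀ (G : X.Modules) (m j : ℕ),
      hd k X (CohB1.tensorMod (CohB1.tensorPow L m) G) j = hseq k X G L j m :=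
    fun G m j => hd_congr (k := k) (comm _ _) j
  refine limsup_eq_of_le (K := K + K') (fun h => by rw [hK0 h, hK0' h]) hB hB'
    (Eventually.of_forall fun m => ?_) (Eventually.of_forall fun m => ?_)
  · have := hd_mid_le (k := k) (Twist.twistSeq_shortExact (hM m) hS) (Twist.isCoh_twist (hM m) h₁)
      (Twist.isCoh_twist (hM m) h₂) (Twist.isCoh_twist (hM m) h₃) i
    exact (hc S.X₂ m i).symm.le.trans (this.trans ((add_le_add ((hc S.X₁ m i).le.trans
      ((hK m).trans (Nat.mul_le_mul_right _ (Nat.le_add_right _ K')))) (hc S.X₃ m i).le).trans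
      (Nat.add_comm _ _).le))
  · have := hd_right_le (k := k) (Twist.twistSeq_shortExact (hM m) hS) (Twist.isCoh_twist (hM m) h₁)
      (Twist.isCoh_twist (hM m) h₂) (Twist.isCoh_twist (hM m) h₃) i
    exact (hc S.X₃ m i).symm.le.trans (this.trans (add_le_add (hc S.X₂ m i).le
      ((hc S.X₁ m _).le.trans ((hK' m).trans (Nat.mul_le_mul_right _ (Nat.le_add_left _ K))))))

/-- A small quotient does not matter. -/
theorem hhatF_left_eq_mid
    (hs : ∀ x ∈ CohB1.support S.X₃, VarDim.Basic.pdim (X ↘ Spec (CommRingCat.of k)) x < n) (i : ℕ) :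
    W4c5asymptcohfn.hhatF k X n i S.X₁ L = W4c5asymptcohfn.hhatF k X n i S.X₂ L := by
  haveI := Curves.GlobalSections.isNoetherian_of_proper k X
  obtain ⟨K, hK0, hK⟩ := exists_bound_id (k := k) hA hL h₃ hs i
  obtain ⟨K', hK0', hK'⟩ := exists_bound_id (k := k) hA hL h₃ hs (i - 1)
  obtain ⟨B, hB⟩ := exists_bound_dim (k := k) hn hA hL h₁ i
  obtain ⟨B', hB'⟩ := exists_bound_dim (k := k) hn hA hL h₂ i
  have hM := fun m => isInvertible_tensorPow hL m
  have hc : ∀ (G : X.Modules) (m j : ℕ),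
      hd k X (CohB1.tensorMod (CohB1.tensorPow L m) G) j = hseq k X G L j m :=
    fun G m j => hd_congr (k := k) (comm _ _) j
  refine limsup_eq_of_le (K := K + K') (fun h => by rw [hK0 h, hK0' h]) hB hB'
    (Eventually.of_forall fun m => ?_) (Eventually.of_forall fun m => ?_)
  · have := hd_left_le (k := k) (Twist.twistSeq_shortExact (hM m) hS) (Twist.isCoh_twist (hM m) h₁)
      (Twist.isCoh_twist (hM m) h₂) (Twist.isCoh_twist (hM m) h₃) i
    exact (hc S.X₁ m i).symm.le.trans (this.trans (add_le_add (hc S.X₂ m i).le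
      ((hc S.X₃ m _).le.trans ((hK' m).trans (Nat.mul_le_mul_right _ (Nat.le_add_left _ K))))))
  · have := hd_mid_le (k := k) (Twist.twistSeq_shortExact (hM m) hS) (Twist.isCoh_twist (hM m) h₁)
      (Twist.isCoh_twist (hM m) h₂) (Twist.isCoh_twist (hM m) h₃) i
    exact (hc S.X₂ m i).symm.le.trans (this.trans (add_le_add (hc S.X₁ m i).le
      ((hc S.X₃ m i).le.trans ((hK m).trans (Nat.mul_le_mul_right _ (Nat.le_add_right _ K'))))))

end Bound

end Groth.Agent.Lib.PosLin.Asymp
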