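import Groth.Agent.Lib.PosLin.AsympTwist
import Groth.Agent.Lib.PosLin.TopVanish
import Groth.Agent.Lib.ProjCoh.Coherent

/-!
# Asymptotic cohomology only sees the generic rank
-/

set_option autoImplicit false
set_option linter.style.haveILetI false
set_option linter.unusedSectionVars false
universe u

open CategoryTheory CategoryTheory.Limits AlgebraicGeometry Filter

namespace Groth.Agent.Lib.PosLin.AsympRank

open Groth.Agent.Lib Groth.Agent.Lib.Snapper Groth.Agent.Lib.PosLin.CohBound
  Groth.Agent.Lib.PosLin.Asymp Groth.Agent.Lib.PosLin.AsympTwist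
open Groth.Agent.Lib.PosLin.SectionBound (isCoh_twist_right)
open Groth.Agent.Lib.TensorMod.Basic (tmap comm assoc tensorIso leftUnit rightUnit tensorFunctor)
open Groth.Agent.Lib.TensorMod.Invertible (isInvertible_tensorPow isInvertible_tensorMod)
open Groth.Agent.Lib.Modules.StalkModule (stalkMapₗ stalkMapₗ_comp stalkMapₗ_add stalkMapₗ_id
  stalkMapₗ_zero stalkMapₗ_germ)
open Groth.Agent.Lib.Curves.LES (mapK mapK_comp mapK_id)

/-- Choosing a basis inside a spanning set, over a commutative ring which is a field. -/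
theorem exists_frame {K V : Type*} [CommRing K] (hK : IsField K) [AddCommGroup V] [Module K V]
    [Module.Finite K V] {r : ℕ} (hr : Module.finrank K V = r) (S : Set V)
    (hS : Submodule.span K S = ⊤) :
    ∃ b : Fin r → V, (∀ j, b j ∈ S) ∧ Submodule.span K (Set.range b) = ⊤ ∧
      ∀ c : Fin r → K, ∑ j, c j • b j = 0 → ∀ j, c j = 0 := by
  letI := hK.toField
  subst hr
  obtain ⟨b, h1, h2, h3⟩ := Submodule.exists_fun_fin_finrank_span_eq K S
  have he : Module.finrank K (Submodule.span K S) = Module.finrank K V := by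
    rw [hS, finrank_top]
  refine ⟨b ∘ finCongr he.symm, fun j => h1 _, ?_,
    fun c hc => Fintype.linearIndependent_iff.1 (h3.comp _ (finCongr he.symm).injective) c hc⟩
  rw [(finCongr he.symm).surjective.range_comp, h2, hS]

variable {k : Type u} [Field k] {X : Scheme.{u}} [X.Over (Spec (CommRingCat.of k))]
  [IsProper (X ↘ Spec (CommRingCat.of k))]

/-- Cohomology of a sum of two modules. -/
theorem hd_biprod {M A B : X.Modules} (hM : PicF.IsInvertible M) (hA : Coh.IsCoh A)
    (hB : Coh.IsCoh B) (i : ℕ) :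
    hd k X (CohB1.tensorMod M (A ⊞ B)) i =
      hd k X (CohB1.tensorMod M A) i + hd k X (CohB1.tensorMod M B) i := by
  haveI := Curves.GlobalSections.isNoetherian_of_proper k X
  haveI := Twist.isEquivalence_twist hM
  haveI : ((tensorFunctor X).obj M).Additive := Functor.additive_of_preserves_binary_products _
  let G := (tensorFunctor X).obj M
  haveI : Module.Finite k (Coh.HH X (G.obj A) i) :=
    Finite.cohFinite k X _ (Twist.isCoh_twist hM hA) i
  haveI : Module.Finite k (Coh.HH X (G.obj B) i) :=
    Finite.cohFinite k X _ (Twist.isCoh_twist hM hB) i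
  have hadd : ∀ {P Q : X.Modules} (φ ψ : P ⟶ Q), mapK k (φ + ψ) i = mapK k φ i + mapK k ψ i :=
    fun φ ψ => LinearMap.ext fun x => ProjCoh.Coherent.mapK_add k φ ψ i x
  have hzero : ∀ (P Q : X.Modules), mapK k (0 : P ⟶ Q) i = 0 := fun P Q => by
    have h := hadd (0 : P ⟶ Q) 0
    rw [add_zero] at h
    exact left_eq_add.mp h
  have hc : ∀ {P Q R : X.Modules} (φ : P ⟶ Q) (ψ : Q ⟶ R) (x : Coh.HH X (G.obj P) i),
      mapK k (G.map ψ) i (mapK k (G.map φ) i x) = mapK k (G.map (φ ≫ ψ)) i x := fun φ ψ x => by
    rw [G.map_comp, mapK_comp]; rfl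
  let e : Coh.HH X (G.obj (A ⊞ B)) i ≃ₗ[k] Coh.HH X (G.obj A) i × Coh.HH X (G.obj B) i :=
    LinearEquiv.ofLinearMap
      ((mapK k (G.map biprod.fst) i).prod (mapK k (G.map biprod.snd) i))
      ((mapK k (G.map biprod.inl) i).coprod (mapK k (G.map biprod.inr) i))
      (LinearMap.ext fun p => by
        refine Prod.ext ?_ ?_
        all_goals
          simp only [LinearMap.comp_apply, LinearMap.coprod_apply, LinearMap.prod_apply, Function.prod_apply,
            map_add, hc, biprod.inl_fst, biprod.inr_fst, biprod.inl_snd, biprod.inr_snd,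
            G.map_id, G.map_zero, mapK_id, hzero, Prod.mk_add_mk, LinearMap.id_apply, LinearMap.zero_apply,
            add_zero, zero_add])
      (LinearMap.ext fun x => by
        simp only [LinearMap.comp_apply, LinearMap.coprod_apply, LinearMap.prod_apply, Function.prod_apply, hc]
        rw [← LinearMap.add_apply, ← hadd, ← G.map_add, biprod.total, G.map_id, mapK_id])
  exact e.finrank_eq.trans (Module.finrank_prod)

/-- The germ of `1`. -/
noncomputable abbrev one₁ (X : Scheme.{u}) (x : X) :
    (Coh.structureModule X).presheaf.stalk x :=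
  (Coh.structureModule X).presheaf.germ ⊤ x (Ample.GG.memTop x) (1 : Γ(X, ⊤))

/-- A free module of rank `r`, with its frame. -/
theorem exists_free (x : X) (r : ℕ) :
    ∃ (P : X.Modules) (e : Fin r → (Coh.structureModule X ⟶ P)), Coh.IsCoh P ∧
      (∀ (G : X.Modules) (f : Fin r → (Coh.structureModule X ⟶ G)), ∃ φ : P ⟶ G, ∀ j, e j ≫ φ = f j) ∧
      Submodule.span (X.presheaf.stalk x)
        (Set.range fun j => stalkMapₗ (e j) x (one₁ X x)) = ⊤ ∧
      ∀ (M : X.Modules), PicF.IsInvertible M → ∀ i,
        hd k X (CohB1.tensorMod M P) i = r * hd k X (CohB1.tensorMod M (Coh.structureModule X)) i := by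
  haveI := Curves.GlobalSections.isNoetherian_of_proper k X
  have hO := Twist.isCoh_structureModule X
  have hspanO : ∀ v : (Coh.structureModule X).presheaf.stalk x,
      v ∈ Submodule.span (X.presheaf.stalk x) {one₁ X x} := fun v => by
    refine Submodule.mem_span_singleton.2 ⟨SurfInt.Stalk.oStalk x v, ?_⟩
    apply (SurfInt.Stalk.oStalk x).injective
    rw [map_smul, show SurfInt.Stalk.oStalk x (one₁ X x) = 1 by
      rw [one₁, SurfInt.Stalk.oStalk_germ, map_one], smul_eq_mul, mul_one]
  induction r with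
  | zero =>
    refine ⟨kernel (𝟙 (Coh.structureModule X)), fun j => j.elim0,
      CohBasics.Closure.isCoh_kernel _ hO hO.1, fun G f => ⟨0, fun j => j.elim0⟩, ?_, fun M hM i => ?_⟩
    · have hz : IsZero (kernel (𝟙 (Coh.structureModule X))) := isZero_kernel_of_mono _
      haveI := Modules.Support.not_mem_support_iff.1
        (Set.eq_empty_iff_forall_notMem.1 ((Modules.Support.support_eq_empty_iff).2 hz) x)
      exact Subsingleton.elim _ _
    · rw [Nat.zero_mul]
      haveI : Subsingleton (Coh.HH X (CohB1.tensorMod M (kernel (𝟙 (Coh.structureModule X)))) i) := by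
        refine subsingleton_HH_isZero (k := k) ?_ i
        rw [← Modules.Support.support_eq_empty_iff, Twist.support_twist hM,
          Modules.Support.support_eq_empty_iff]
        exact isZero_kernel_of_mono _
      exact Module.finrank_zero_of_subsingleton
  | succ r ih =>
    obtain ⟨P, e, hP, huniv, hspan, hdim⟩ := ih
    refine ⟨P ⊞ Coh.structureModule X, Fin.snoc (fun j => e j ≫ biprod.inl) biprod.inr,
      CohBasics.Closure.isCoh_biprod hP hO, fun G f => ?_, ?_, fun M hM i => ?_⟩
    · obtain ⟨φ, hφ⟩ := huniv G fun j => f j.castSucc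
      refine ⟨biprod.desc φ (f (Fin.last r)), fun j => ?_⟩
      induction j using Fin.lastCases with
      | last => simp
      | cast j => simp [hφ]
    · refine eq_top_iff.2 fun v _ => ?_
      have hv : v = stalkMapₗ (biprod.inl (Y := Coh.structureModule X)) x
            (stalkMapₗ (biprod.fst (X := P)) x v) +
          stalkMapₗ (biprod.inr (X := P)) x
            (stalkMapₗ (biprod.snd (Y := Coh.structureModule X)) x v) := by
        have h := LinearMap.congr_fun (congrArg (fun ψ => stalkMapₗ ψ x)
          (biprod.total (X := P) (Y := Coh.structureModule X))) v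
        simpa only [stalkMapₗ_add, stalkMapₗ_comp, stalkMapₗ_id, LinearMap.add_apply,
          LinearMap.comp_apply, LinearMap.id_apply] using h.symm
      rw [hv]
      refine Submodule.add_mem _ ?_ ?_
      · have h := Submodule.apply_mem_span_image_of_mem_span
          (stalkMapₗ (biprod.inl (X := P) (Y := Coh.structureModule X)) x)
          (hspan.ge (Submodule.mem_top (x := stalkMapₗ (biprod.fst (X := P)) x v)))
        refine Submodule.span_mono ?_ h
        rintro _ ⟨_, ⟨j, rfl⟩, rfl⟩
        exact ⟨j.castSucc, by simp only [Fin.snoc_castSucc, stalkMapₗ_comp, LinearMap.comp_apply]⟩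
      · have h := Submodule.apply_mem_span_image_of_mem_span
          (stalkMapₗ (biprod.inr (X := P) (Y := Coh.structureModule X)) x)
          (hspanO (stalkMapₗ (biprod.snd (Y := Coh.structureModule X)) x v))
        refine Submodule.span_mono ?_ h
        rintro _ ⟨_, rfl, rfl⟩
        exact ⟨Fin.last r, by simp only [Fin.snoc_last]⟩
    · rw [hd_biprod (k := k) hM hP hO, hdim M hM i, Nat.succ_mul]

variable [IsIntegral X] {n : ℕ} (hn : topologicalKrullDim X = n)

/-- A small submodule. -/
theorem Near.of_seq_sub {A L : X.Modules} (hA : CohB1.IsAmple A) (hL : PicF.IsInvertible L)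
    {S : ShortComplex X.Modules} (hS : S.ShortExact) (h₁ : Coh.IsCoh S.X₁) (h₂ : Coh.IsCoh S.X₂)
    (h₃ : Coh.IsCoh S.X₃)
    (hs : ∀ x ∈ CohB1.support S.X₁, VarDim.Basic.pdim (X ↘ Spec (CommRingCat.of k)) x < n) :
    Near k X n L S.X₂ S.X₃ := fun i => by
  haveI := Curves.GlobalSections.isNoetherian_of_proper k X
  obtain ⟨K, hK0, hK⟩ := exists_bound_id (k := k) hA hL h₁ hs i
  obtain ⟨K', hK0', hK'⟩ := exists_bound_id (k := k) hA hL h₁ hs (i + 1)
  have hM := fun m => isInvertible_tensorPow hL m
  have hc : ∀ (G : X.Modules) (m j : ℕ),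
      hd k X (CohB1.tensorMod (CohB1.tensorPow L m) G) j = hseq k X G L j m :=
    fun G m j => hd_congr (k := k) (comm _ _) j
  refine ⟨K + K', fun h => by rw [hK0 h, hK0' h], fun m => ⟨?_, ?_⟩⟩
  · have := hd_mid_le (k := k) (Twist.twistSeq_shortExact (hM m) hS) (Twist.isCoh_twist (hM m) h₁)
      (Twist.isCoh_twist (hM m) h₂) (Twist.isCoh_twist (hM m) h₃) i
    exact (hc S.X₂ m i).symm.le.trans (this.trans ((add_le_add ((hc S.X₁ m i).le.trans
      ((hK m).trans (Nat.mul_le_mul_right _ (Nat.le_add_right _ K')))) (hc S.X₃ m i).le).trans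
      (Nat.add_comm _ _).le))
  · have := hd_right_le (k := k) (Twist.twistSeq_shortExact (hM m) hS) (Twist.isCoh_twist (hM m) h₁)
      (Twist.isCoh_twist (hM m) h₂) (Twist.isCoh_twist (hM m) h₃) i
    exact (hc S.X₃ m i).symm.le.trans (this.trans (add_le_add (hc S.X₂ m i).le
      ((hc S.X₁ m _).le.trans ((hK' m).trans (Nat.mul_le_mul_right _ (Nat.le_add_left _ K))))))

include hn

set_option maxHeartbeats 800000 in
/-- A map which is bijective at the generic point. -/
theorem Near.of_bijective {A L F G : X.Modules} (hA : CohB1.IsAmple A) (hL : PicF.IsInvertible L)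
    (hF : Coh.IsCoh F) (hG : Coh.IsCoh G) (φ : F ⟶ G)
    (hφ : Function.Bijective (stalkMapₗ φ (genericPoint X))) : Near k X n L F G := by
  haveI := Curves.GlobalSections.isNoetherian_of_proper k X
  set η := genericPoint X
  have hK := CohBasics.Closure.isCoh_kernel φ hF hG.1
  let π : F ⟶ cokernel (kernel.ι φ) := cokernel.π (kernel.ι φ)
  let m : cokernel (kernel.ι φ) ⟶ G := cokernel.desc (kernel.ι φ) φ (kernel.condition φ)
  haveI : Mono m := inferInstanceAs (Mono (Abelian.factorThruCoimage φ))
  have hM : Coh.IsCoh (cokernel (kernel.ι φ)) := CohBasics.Closure.isCoh_cokernel _ hK.1 hF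
  have hQ : Coh.IsCoh (cokernel m) := CohBasics.Closure.isCoh_cokernel _ hM.1 hG
  have hk : η ∉ CohB1.support (kernel φ) := fun h => h (subsingleton_of_forall_eq 0 fun v => by
    apply (Modules.StalkModule.mono_iff_stalkMapₗ_injective (kernel.ι φ)).mp inferInstance η
    apply hφ.1
    rw [← LinearMap.comp_apply, ← stalkMapₗ_comp, kernel.condition, stalkMapₗ_zero, map_zero,
      map_zero]
    rfl)
  have hc : η ∉ CohB1.support (cokernel m) := fun h => h (subsingleton_of_forall_eq 0 fun v => by
    obtain ⟨w, rfl⟩ :=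
      (Modules.StalkModule.epi_iff_stalkMapₗ_surjective (cokernel.π m)).mp inferInstance η v
    obtain ⟨u, rfl⟩ := hφ.2 w
    have hπm : π ≫ m = φ := cokernel.π_desc _ _ _
    have hf : φ ≫ cokernel.π m = 0 :=
      (congrArg (· ≫ cokernel.π m) hπm).symm.trans
        ((Category.assoc π m _).trans (by rw [cokernel.condition, comp_zero]))
    rw [← LinearMap.comp_apply, ← stalkMapₗ_comp, hf, stalkMapₗ_zero]
    rfl)
  refine (Near.of_seq_sub (k := k)
    (S := ShortComplex.mk (kernel.ι φ) π (cokernel.condition _)) hA hL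
    (Devissage.Basic.exists_ses_mono (kernel.ι φ)) hK hF hM
    fun x hx => pdim_lt_of_ne (k := k) hn fun e => hk (show η ∈ _ from (e.trans rfl : x = η) ▸ hx)).trans ?_
  exact Near.of_seq (k := k) (S := ShortComplex.mk m (cokernel.π m) (cokernel.condition m)) hA hL
    (Devissage.Basic.exists_ses_mono m) hM hG hQ
    fun x hx => pdim_lt_of_ne (k := k) hn fun e => hc (show η ∈ _ from (e.trans rfl : x = η) ▸ hx)

set_option maxHeartbeats 800000 in
/-- **Rank.** -/
theorem hhatF_eq_rank_mul {A L F : X.Modules} (hA : CohB1.IsAmple A) (hL : PicF.IsInvertible L)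
    (hF : Coh.IsCoh F) {r : ℕ}
    (hr : Module.finrank (X.presheaf.stalk (genericPoint X))
      (F.presheaf.stalk (genericPoint X)) = r) (i : ℕ) :
    W4c5asymptcohfn.hhatF k X n i F L = (r : ℝ) * W4c5asymptcohfn.hhat k X n i L := by
  haveI := Curves.GlobalSections.isNoetherian_of_proper k X
  set η := genericPoint X
  have hO := PicLoc.isInvertible_structureModule X
  obtain ⟨n₁, hn₁⟩ := Ample.GG.eventually_genAt_twist hA F hF
  obtain ⟨n₂, hn₂⟩ := Ample.GG.eventually_genAt_twist hA (Coh.structureModule X)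
    (Twist.isCoh_structureModule X)
  set N := n₁ + n₂
  have hAN := isInvertible_tensorPow hA.1 N
  set G := CohB1.tensorMod F (CohB1.tensorPow A N)
  have hG : Coh.IsCoh G := isCoh_twist_right hF hAN
  obtain ⟨t, ht⟩ := Ample.GG.exists_genLocus_of_genAt (isInvertible_tensorMod hO hAN)
    (hn₂ N (by omega) η)
  have h1 : Near k X n L F G := Near.of_bijective (k := k) hn hA hL hF hG
    ((UnifReg.Hyperplane.mulS (t ≫ (leftUnit _).hom)).app F)
    (UnifReg.Hyperplane.bijective_stalk_mulS _
      (by rw [Ample.GenLocus.genLocus_comp_iso]; exact ht) F)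
  have hgen : Ample.GG.GenAt G η := hn₁ N (by omega) η
  obtain ⟨f₀⟩ := Twist.exists_stalkEquiv_twist hAN F η
  have hrG : Module.finrank (X.presheaf.stalk η) (G.presheaf.stalk η) = r := by
    rw [← hr]
    exact ((Modules.StalkModule.stalkLinearEquiv (comm F (CohB1.tensorPow A N)) η).trans f₀).finrank_eq
  haveI : Module.Finite (X.presheaf.stalk η) (G.presheaf.stalk η) :=
    (haveI := hG.1; haveI := hG.2; Modules.GenStalk.finite_stalk G η)
  have hgen' : Submodule.span (X.presheaf.stalk η)
      (Set.range fun t : Γ(G, ⊤) => G.presheaf.germ ⊤ η (Ample.GG.memTop η) t) = ⊤ := hgen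
  obtain ⟨b, hb, hbspan, hbind⟩ :=
    exists_frame (Field.toIsField X.functionField) hrG _ hgen'
  choose s hs using hb
  obtain ⟨P, e, hP, huniv, hspan, hdim⟩ := exists_free (k := k) η r
  obtain ⟨φ, hφ⟩ := huniv G fun j => Modules.Free.unitHom G (s j)
  have hφb : ∀ j, stalkMapₗ φ η (stalkMapₗ (e j) η (one₁ X η)) = b j := fun j => by
    rw [← LinearMap.comp_apply, ← stalkMapₗ_comp, hφ, ← hs j]
    exact (stalkMapₗ_germ _ _ _).trans
      (congrArg _ (Modules.Free.unitHom_app_one G (s j)))
  have hbij : Function.Bijective (stalkMapₗ φ η) := by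
    refine ⟨(injective_iff_map_eq_zero _).2 fun v hv => ?_, fun w => ?_⟩
    · obtain ⟨c, rfl⟩ := (Submodule.mem_span_range_iff_exists_fun _).1
        (hspan.ge (Submodule.mem_top (x := v)))
      simp only [map_sum, map_smul, hφb] at hv
      simp [hbind c hv]
    · obtain ⟨c, rfl⟩ := (Submodule.mem_span_range_iff_exists_fun _).1
        (hbspan.ge (Submodule.mem_top (x := w)))
      exact ⟨∑ j, c j • stalkMapₗ (e j) η (one₁ X η), by simp only [map_sum, map_smul, hφb]⟩
  have h2 : Near k X n L G P := (Near.of_bijective (k := k) hn hA hL hP hG φ hbij).symm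
  obtain ⟨K, hK0, hK⟩ := (h1.trans h2) i
  obtain ⟨B, hB⟩ := exists_bound_dim (k := k) hn hA hL hF i
  obtain ⟨B', hB'⟩ := exists_bound_dim (k := k) hn hA hL hP i
  rw [hhatF_eq, limsup_eq_of_le hK0 hB hB' (Eventually.of_forall fun m => (hK m).1)
    (Eventually.of_forall fun m => (hK m).2), hhat_eq]
  have h3 : nrm n (hseq k X P L i) =
      fun m => (r : ℝ) * nrm n (fun m => hd k X (CohB1.tensorPow L m) i) m := funext fun m => by
    simp only [nrm]
    rw [show hseq k X P L i m = r * hd k X (CohB1.tensorPow L m) i from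
      ((hd_congr (k := k) (comm _ _) i).trans (hdim _ (isInvertible_tensorPow hL m) i)).trans
        (congrArg (r * ·) (hd_congr (k := k) (rightUnit _) i))]
    push_cast
    ring
  obtain ⟨B₀, hB₀⟩ := exists_bound_dim (k := k) hn hA hL (Twist.isCoh_structureModule X) i
  have hb0 : ∀ m, hd k X (CohB1.tensorPow L m) i ≤ B₀ * (m + 1) ^ n := fun m =>
    (hd_congr (k := k) (leftUnit _).symm i).le.trans (hB₀ m)
  rw [h3]
  exact ((monotone_mul_left_of_nonneg (Nat.cast_nonneg r : (0 : ℝ) ≤ r)).map_limsup_of_continuousAt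
    (nrm n fun m => hd k X (CohB1.tensorPow L m) i) (continuous_const_mul _).continuousAt
    (bounded_nrm hb0) (cobounded_nrm n _)).symm

end Groth.Agent.Lib.PosLin.AsympRank
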