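import Groth.Agent.Lib.Ample.Pow
import Mathlib.AlgebraicGeometry.Noetherian
import Mathlib.AlgebraicGeometry.Morphisms.Proper

/-!
# Base loci of the powers of an invertible module
-/

noncomputable section

universe u

open CategoryTheory AlgebraicGeometry TopologicalSpace

namespace Groth.Agent.Lib.PosLin.BaseLocus

open Groth.Agent.Lib Groth.Agent.Lib.Ample

variable {X : Scheme.{u}}

/-- The complement of the base locus of `L^{⊗ m}`. -/
def gen (L : X.Modules) (m : ℕ) : X.Opens :=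
  ⨆ s : Coh.structureModule X ⟶ CohB1.tensorPow L m, CohB1.genLocus (CohB1.tensorPow L m) s

theorem mem_gen {L : X.Modules} {m : ℕ} {x : X} :
    x ∈ gen L m ↔ ∃ s, x ∈ CohB1.genLocus (CohB1.tensorPow L m) s := Opens.mem_iSup

theorem bs_eq (L : X.Modules) (m : ℕ) :
    {x : X | ∀ s : Coh.structureModule X ⟶ CohB1.tensorPow L m,
      x ∉ CohB1.genLocus (CohB1.tensorPow L m) s} = (gen L m : Set X)ᶜ := by
  ext x
  simp [mem_gen]

theorem stable_eq (L : X.Modules) :
    {x : X | ∀ m : ℕ, 0 < m → ∀ s : Coh.structureModule X ⟶ CohB1.tensorPow L m,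
      x ∉ CohB1.genLocus (CohB1.tensorPow L m) s} =
      {x : X | ∀ m : ℕ, 0 < m → x ∉ gen L m} := by
  ext x
  simp [mem_gen]

theorem gen_pow_le {L : X.Modules} (hL : PicF.IsInvertible L) {m k : ℕ} (hk : 0 < k) :
    gen L m ≤ gen L (m * k) := by
  intro x hx
  obtain ⟨s, hs⟩ := mem_gen.1 hx
  refine mem_gen.2 ⟨SecTwist.powHom s k ≫ (Pow.powMul L m k).hom, ?_⟩
  rw [GenLocus.genLocus_comp_iso,
    GenLocus.genLocus_powHom (TensorMod.Invertible.isInvertible_tensorPow hL m) s k hk]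
  exact hs

theorem gen_mono {L : X.Modules} (hL : PicF.IsInvertible L) {m n : ℕ} (h : m ∣ n) (hn : 0 < n) :
    gen L m ≤ gen L n := by
  obtain ⟨k, rfl⟩ := h
  exact gen_pow_le hL (Nat.pos_of_mul_pos_left hn)

theorem gen_tensorPow {L : X.Modules} (p m : ℕ) :
    gen (CohB1.tensorPow L p) m = gen L (p * m) := by
  ext x
  simp only [SetLike.mem_coe, mem_gen]
  constructor
  · rintro ⟨s, hs⟩
    exact ⟨s ≫ (Pow.powMul L p m).hom, by rwa [GenLocus.genLocus_comp_iso]⟩
  · rintro ⟨s, hs⟩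
    exact ⟨s ≫ (Pow.powMul L p m).inv, by
      rwa [show (Pow.powMul L p m).inv = (Pow.powMul L p m).symm.hom from rfl,
        GenLocus.genLocus_comp_iso]⟩

/-- The stable base locus is the base locus of some power. -/
theorem exists_stable [NoetherianSpace X] {L : X.Modules} (hL : PicF.IsInvertible L) :
    ∃ n₀ : ℕ, 0 < n₀ ∧ ∀ k : ℕ, 0 < k →
      {x : X | ∀ m : ℕ, 0 < m → x ∉ gen L m} = (gen L (k * n₀) : Set X)ᶜ := by
  have hc : IsCompact (⋃ m : ℕ, (gen L (m + 1) : Set X)) := NoetherianSpace.isCompact _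
  obtain ⟨t, ht⟩ := hc.elim_finite_subcover (fun m : ℕ => (gen L (m + 1) : Set X))
    (fun m => (gen L (m + 1)).isOpen) subset_rfl
  refine ⟨∏ m ∈ t, (m + 1), Finset.prod_pos fun m _ => Nat.succ_pos m, fun k hk => ?_⟩
  have hpos : 0 < k * ∏ m ∈ t, (m + 1) := Nat.mul_pos hk (Finset.prod_pos fun m _ => Nat.succ_pos m)
  ext x
  refine ⟨fun h hx => h _ hpos hx, fun h m hm hx => h ?_⟩
  obtain ⟨m, rfl⟩ : ∃ n, m = n + 1 := ⟨m - 1, by omega⟩
  obtain ⟨i, hi, hxi⟩ := Set.mem_iUnion₂.1 (ht (Set.mem_iUnion.2 ⟨m, hx⟩))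
  exact gen_mono hL ((Finset.dvd_prod_of_mem _ hi).trans (dvd_mul_left _ k)) hpos hxi

/-- Proper schemes over a field have noetherian underlying spaces. -/
theorem noetherianSpace_of_isProper {K : Type u} [Field K]
    (p : X ⟶ Spec (CommRingCat.of K)) [IsProper p] : NoetherianSpace X := by
  have := LocallyOfFiniteType.isLocallyNoetherian p
  have : CompactSpace X := QuasiCompact.compactSpace_of_compactSpace p
  have : IsNoetherian X := {}
  infer_instance

end Groth.Agent.Lib.PosLin.BaseLocus
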